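import Mathlib

/-!
# Coefficients of a product of linear factors over an ultrametric field
-/

set_option autoImplicit false
set_option linter.unusedSectionVars false
set_option linter.unusedVariables false
set_option linter.unusedSimpArgs false
set_option linter.style.haveILetI false
set_option maxHeartbeats 400000

namespace Groth.Agent.Lib.Helper6.WeilNumL

open Polynomial

variable {L : Type*} [NormedField L] [IsUltrametricDist L]

/-- The monic polynomial with the given multiset of roots. -/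
noncomputable def prodPoly (M : Multiset L) : L[X] := (M.map (fun z => X - C z)).prod

theorem prodPoly_zero : prodPoly (0 : Multiset L) = 1 := by
  simp [prodPoly]

theorem prodPoly_cons (z : L) (M : Multiset L) :
    prodPoly (z ::ₘ M) = prodPoly M * (X - C z) := by
  unfold prodPoly
  rw [Multiset.map_cons, Multiset.prod_cons, mul_comm]

theorem prodPoly_add (M N : Multiset L) : prodPoly (M + N) = prodPoly M * prodPoly N := by
  unfold prodPoly
  rw [Multiset.map_add, Multiset.prod_add]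

theorem norm_sub_le_one {a b : L} (ha : ‖a‖ ≤ 1) (hb : ‖b‖ ≤ 1) : ‖a - b‖ ≤ 1 := by
  rw [sub_eq_add_neg]
  refine (IsUltrametricDist.norm_add_le_max a (-b)).trans ?_
  rw [norm_neg]
  exact max_le ha hb

theorem norm_sub_lt_one {a b : L} (ha : ‖a‖ < 1) (hb : ‖b‖ < 1) : ‖a - b‖ < 1 := by
  rw [sub_eq_add_neg]
  refine (IsUltrametricDist.norm_add_le_max a (-b)).trans_lt ?_
  rw [norm_neg]
  exact max_lt ha hb

theorem norm_sub_eq_one {a b : L} (ha : ‖a‖ = 1) (hb : ‖b‖ < 1) : ‖a - b‖ = 1 := by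
  rw [sub_eq_add_neg]
  have hne : ‖a‖ ≠ ‖-b‖ := by
    rw [norm_neg, ha]
    exact (ne_of_lt hb).symm
  rw [IsUltrametricDist.norm_add_eq_max_of_norm_ne_norm hne, norm_neg, ha]
  exact max_eq_left hb.le

/-- Multiplying by a factor `X - z` with `‖z‖ ≤ 1` keeps the coefficients in the unit ball. -/
theorem coeff_le_one_step (T : L[X]) (hT : ∀ k, ‖T.coeff k‖ ≤ 1) (z : L) (hz : ‖z‖ ≤ 1) (k : ℕ) :
    ‖(T * (X - C z)).coeff k‖ ≤ 1 := by
  cases k with
  | zero =>
    rw [mul_coeff_zero, coeff_sub, coeff_X_zero, coeff_C_zero, zero_sub, mul_neg, norm_neg,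
      norm_mul]
    exact mul_le_one₀ (hT 0) (norm_nonneg _) hz
  | succ a =>
    rw [coeff_mul_X_sub_C]
    apply norm_sub_le_one (hT a)
    rw [norm_mul]
    exact mul_le_one₀ (hT (a + 1)) (norm_nonneg _) hz

theorem unitPart (U : Multiset L) (hU : ∀ z ∈ U, ‖z‖ = 1) :
    (∀ k, ‖(prodPoly U).coeff k‖ ≤ 1) ∧ ‖(prodPoly U).coeff 0‖ = 1 := by
  induction U using Multiset.induction_on with
  | empty =>
    rw [prodPoly_zero]
    refine ⟨fun k => ?_, by simp⟩
    rw [coeff_one]
    split_ifs <;> simp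
  | cons z U ih =>
    have hz : ‖z‖ = 1 := hU z (Multiset.mem_cons_self z U)
    obtain ⟨h1, h2⟩ := ih (fun w hw => hU w (Multiset.mem_cons_of_mem hw))
    rw [prodPoly_cons]
    refine ⟨fun k => coeff_le_one_step _ h1 z hz.le k, ?_⟩
    rw [mul_coeff_zero, coeff_sub, coeff_X_zero, coeff_C_zero, zero_sub, mul_neg, norm_neg,
      norm_mul, h2, hz, one_mul]

/-- The main estimate: for `T` with coefficients in the unit ball and constant coefficient a unit,
and `N` a multiset of elements of norm `< 1`, the product `T * ∏ (X - z)` has its first `|N|`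
coefficients of norm `< 1` and the next one of norm `1`. -/
theorem smallPart (T : L[X]) (hT : ∀ k, ‖T.coeff k‖ ≤ 1) (hT0 : ‖T.coeff 0‖ = 1)
    (N : Multiset L) (hN : ∀ z ∈ N, ‖z‖ < 1) :
    (∀ k, ‖(T * prodPoly N).coeff k‖ ≤ 1) ∧
    (∀ k, k < Multiset.card N → ‖(T * prodPoly N).coeff k‖ < 1) ∧
    ‖(T * prodPoly N).coeff (Multiset.card N)‖ = 1 := by
  induction N using Multiset.induction_on with
  | empty =>
    rw [prodPoly_zero, mul_one]
    refine ⟨hT, fun k hk => ?_, ?_⟩
    · simp at hk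
    · simpa using hT0
  | cons z N ih =>
    have hz : ‖z‖ < 1 := hN z (Multiset.mem_cons_self z N)
    obtain ⟨h1, h2, h3⟩ := ih (fun w hw => hN w (Multiset.mem_cons_of_mem hw))
    rw [prodPoly_cons, ← mul_assoc, Multiset.card_cons]
    refine ⟨fun k => coeff_le_one_step _ h1 z hz.le k, fun k hk => ?_, ?_⟩
    · cases k with
      | zero =>
        rw [mul_coeff_zero, coeff_sub, coeff_X_zero, coeff_C_zero, zero_sub, mul_neg, norm_neg,
          norm_mul]
        calc ‖(T * prodPoly N).coeff 0‖ * ‖z‖ ≤ 1 * ‖z‖ :=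
              mul_le_mul_of_nonneg_right (h1 0) (norm_nonneg _)
          _ < 1 := by rw [one_mul]; exact hz
      | succ a =>
        rw [coeff_mul_X_sub_C]
        apply norm_sub_lt_one (h2 a (by omega))
        rw [norm_mul]
        calc ‖(T * prodPoly N).coeff (a + 1)‖ * ‖z‖ ≤ 1 * ‖z‖ :=
              mul_le_mul_of_nonneg_right (h1 _) (norm_nonneg _)
          _ < 1 := by rw [one_mul]; exact hz
    · rw [coeff_mul_X_sub_C]
      apply norm_sub_eq_one h3
      rw [norm_mul]
      calc ‖(T * prodPoly N).coeff (Multiset.card N + 1)‖ * ‖z‖ ≤ 1 * ‖z‖ :=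
            mul_le_mul_of_nonneg_right (h1 _) (norm_nonneg _)
        _ < 1 := by rw [one_mul]; exact hz

/-- For a multiset `M` in the unit ball with `u` elements of norm one: the coefficients of
`∏ (X - z)` below index `|M| - u` have norm `< 1`, and the one of index `|M| - u` has norm `1`. -/
theorem coeff_prodPoly (M : Multiset L) (hM : ∀ z ∈ M, ‖z‖ ≤ 1) :
    (∀ k, k < Multiset.card (M.filter (fun z => ¬ ‖z‖ = 1)) → ‖(prodPoly M).coeff k‖ < 1) ∧
    ‖(prodPoly M).coeff (Multiset.card (M.filter (fun z => ¬ ‖z‖ = 1)))‖ = 1 := by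
  classical
  have hsplit : M = M.filter (fun z => ‖z‖ = 1) + M.filter (fun z => ¬ ‖z‖ = 1) :=
    (Multiset.filter_add_not _ M).symm
  have hU := unitPart (M.filter (fun z => ‖z‖ = 1)) (fun z hz => (Multiset.mem_filter.1 hz).2)
  have hN := smallPart _ hU.1 hU.2 (M.filter (fun z => ¬ ‖z‖ = 1)) (fun z hz => by
    obtain ⟨h1, h2⟩ := Multiset.mem_filter.1 hz
    exact lt_of_le_of_ne (hM z h1) h2)
  rw [← prodPoly_add, ← hsplit] at hN
  exact ⟨hN.2.1, hN.2.2⟩

/-- A root of a monic polynomial with coefficients in the unit ball lies in the unit ball. -/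
theorem norm_root_le_one (P : L[X]) (hP : P.Monic) (hc : ∀ k, ‖P.coeff k‖ ≤ 1) (z : L)
    (hz : P.eval z = 0) : ‖z‖ ≤ 1 := by
  by_contra hcon
  push Not at hcon
  have hz0 : z ≠ 0 := by
    intro h; rw [h, norm_zero] at hcon; linarith
  set n := P.natDegree with hn
  -- z^n = - ∑_{k<n} a_k z^k
  have h1 : P.eval z = ∑ k ∈ Finset.range n, P.coeff k * z ^ k + z ^ n := by
    rw [eval_eq_sum_range, Finset.sum_range_succ, hP.coeff_natDegree, one_mul]
  rw [h1] at hz
  have h2 : z ^ n = -∑ k ∈ Finset.range n, P.coeff k * z ^ k := eq_neg_of_add_eq_zero_right hz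
  have h3 : ‖z ^ n‖ = ‖z‖ ^ n := norm_pow z n
  by_cases hn0 : n = 0
  · rw [hn0] at h2
    simp at h2
  · have hne : (Finset.range n).Nonempty := Finset.nonempty_range_iff.2 hn0
    obtain ⟨k, hk, hle⟩ := IsUltrametricDist.exists_norm_finsetSum_le_of_nonempty hne
      (fun k => P.coeff k * z ^ k)
    rw [h2, norm_neg] at h3
    have hk' : k < n := Finset.mem_range.1 hk
    have h4 : ‖P.coeff k * z ^ k‖ ≤ ‖z‖ ^ k := by
      rw [norm_mul, norm_pow]
      calc ‖P.coeff k‖ * ‖z‖ ^ k ≤ 1 * ‖z‖ ^ k :=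
            mul_le_mul_of_nonneg_right (hc k) (by positivity)
        _ = ‖z‖ ^ k := one_mul _
    have h5 : ‖z‖ ^ k < ‖z‖ ^ n := pow_lt_pow_right₀ hcon hk'
    linarith

end Groth.Agent.Lib.Helper6.WeilNumL
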