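import Mathlib

/-!
# Weil numbers: the functional equation of the minimal polynomial (complex/rational part)
-/

set_option autoImplicit false
set_option linter.unusedSectionVars false
set_option linter.unusedVariables false
set_option linter.unusedSimpArgs false
set_option linter.style.haveILetI false
set_option maxHeartbeats 400000

namespace Groth.Agent.Lib.Helper6.WeilNumL

open Polynomial

section Sdef

variable (P : ℤ[X]) (q : ℕ)

/-- The polynomial `x^n P(q/x)` over `ℚ`. -/
noncomputable def Spoly : ℚ[X] :=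
  ∑ k ∈ Finset.range (P.natDegree + 1), C ((P.coeff k : ℚ) * (q : ℚ) ^ k) * X ^ (P.natDegree - k)

theorem Spoly_coeff (m : ℕ) :
    (Spoly P q).coeff m =
      if m ≤ P.natDegree then (P.coeff (P.natDegree - m) : ℚ) * (q : ℚ) ^ (P.natDegree - m)
      else 0 := by
  unfold Spoly
  rw [finsetSum_coeff]
  simp only [coeff_C_mul, coeff_X_pow]
  split_ifs with hm
  · rw [Finset.sum_eq_single (P.natDegree - m)]
    · rw [if_pos (by omega), mul_one]
    · intro k hk hne
      rw [if_neg, mul_zero]
      have := Finset.mem_range.1 hk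
      omega
    · intro h
      exfalso; apply h
      rw [Finset.mem_range]; omega
  · refine Finset.sum_eq_zero fun k hk => ?_
    rw [if_neg, mul_zero]
    omega

theorem Spoly_aeval (z w : ℂ) (hzw : w * z = (q : ℂ)) :
    aeval z (Spoly P q) = z ^ P.natDegree * aeval w P := by
  unfold Spoly
  rw [map_sum, aeval_eq_sum_range, Finset.mul_sum]
  refine Finset.sum_congr rfl fun k hk => ?_
  have hk' : k ≤ P.natDegree := by
    have := Finset.mem_range.1 hk; omega
  rw [map_mul, aeval_C, map_pow, aeval_X, zsmul_eq_mul]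
  have h1 : (algebraMap ℚ ℂ) ((P.coeff k : ℚ) * (q : ℚ) ^ k) = (P.coeff k : ℂ) * (q : ℂ) ^ k := by
    simp
  rw [h1, ← hzw, mul_pow]
  have h2 : z ^ P.natDegree = z ^ k * z ^ (P.natDegree - k) := by
    rw [← pow_add]; congr 1; omega
  rw [h2]
  ring

end Sdef

section Main

variable (P : ℤ[X]) (hmonic : P.Monic)
  (hirr : Irreducible (P.map (Int.castRingHom ℚ)))
  (q : ℕ) (hq : 0 < q)
  (hweil : ∀ z ∈ P.aroots ℂ, ‖z‖ = Real.sqrt (q : ℝ))
  (hnr : ∀ z ∈ P.aroots ℂ, z.im ≠ 0)

include hmonic in
theorem mem_aroots_iff (z : ℂ) : z ∈ P.aroots ℂ ↔ aeval z P = 0 := by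
  rw [mem_aroots]
  exact ⟨fun h => h.2, fun h => ⟨hmonic.ne_zero, h⟩⟩

theorem aeval_conj (z : ℂ) : aeval ((starRingEnd ℂ) z) P = (starRingEnd ℂ) (aeval z P) := by
  have := Polynomial.aeval_algHom_apply ((starRingEnd ℂ).toIntAlgHom) z P
  exact this

include hmonic hweil in
theorem conj_mul_self_of_root (z : ℂ) (hz : aeval z P = 0) :
    (starRingEnd ℂ) z * z = (q : ℂ) := by
  have h1 := hweil z ((mem_aroots_iff P hmonic z).2 hz)
  rw [mul_comm, Complex.mul_conj, Complex.normSq_eq_norm_sq, h1, Real.sq_sqrt (Nat.cast_nonneg q)]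
  simp

include hmonic hirr hweil hq in
/-- The functional equation on coefficients. -/
theorem coeff_relation (m : ℕ) (hm : m ≤ P.natDegree) :
    P.coeff (P.natDegree - m) * (q : ℤ) ^ (P.natDegree - m) = P.coeff 0 * P.coeff m := by
  have hdeg : 0 < P.natDegree := by
    have := hirr.natDegree_pos
    rwa [hmonic.natDegree_map] at this
  -- a complex root
  obtain ⟨z, hz⟩ := IsAlgClosed.exists_aeval_eq_zero ℂ P (by
    rw [Polynomial.degree_eq_natDegree hmonic.ne_zero]
    exact_mod_cast hdeg.ne')
  have hw := conj_mul_self_of_root P hmonic q hweil z hz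
  have hzw : aeval ((starRingEnd ℂ) z) P = 0 := by rw [aeval_conj, hz, map_zero]
  -- minimal polynomial of z over ℚ
  have hPq : aeval z (P.map (Int.castRingHom ℚ)) = 0 := by
    rw [show (Int.castRingHom ℚ) = algebraMap ℤ ℚ from (algebraMap_int_eq ℚ).symm,
      aeval_map_algebraMap]
    exact hz
  have hmin : P.map (Int.castRingHom ℚ) = minpoly ℚ z :=
    minpoly.eq_of_irreducible_of_monic hirr hPq (hmonic.map _)
  -- the difference polynomial
  set T : ℚ[X] := Spoly P q - C (P.coeff 0 : ℚ) * P.map (Int.castRingHom ℚ) with hT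
  have hTz : aeval z T = 0 := by
    rw [hT, map_sub, Spoly_aeval P q z _ hw, hzw, mul_zero, map_mul, hPq, mul_zero, sub_zero]
  have hTdeg : T.degree < (P.natDegree : WithBot ℕ) := by
    rw [degree_lt_iff_coeff_zero]
    intro j hj
    rw [hT, coeff_sub, coeff_C_mul, Spoly_coeff, coeff_map]
    rcases Nat.lt_or_ge P.natDegree j with hlt | hge
    · rw [if_neg (by omega), coeff_eq_zero_of_natDegree_lt hlt]
      simp
    · have : j = P.natDegree := le_antisymm hge hj
      subst this
      rw [if_pos le_rfl, Nat.sub_self, pow_zero, mul_one, hmonic.coeff_natDegree]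
      simp
  have hT0 : T = 0 := by
    by_contra hne
    have h1 := minpoly.degree_le_of_ne_zero ℚ z hne hTz
    rw [← hmin, degree_eq_natDegree (hmonic.map _).ne_zero, hmonic.natDegree_map] at h1
    exact absurd (lt_of_le_of_lt h1 hTdeg) (lt_irrefl _)
  have hc := congrArg (fun f => f.coeff m) hT0
  simp only [hT, coeff_sub, coeff_C_mul, Spoly_coeff, coeff_map, coeff_zero, if_pos hm] at hc
  have hc' : (P.coeff (P.natDegree - m) : ℚ) * (q : ℚ) ^ (P.natDegree - m) =
      (P.coeff 0 : ℚ) * (P.coeff m : ℚ) := by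
    have := sub_eq_zero.1 hc
    simpa using this
  exact_mod_cast hc'

include hmonic hnr in
/-- The degree is even. -/
theorem even_natDegree : Even P.natDegree := by
  classical
  set Pc : ℂ[X] := P.map (algebraMap ℤ ℂ) with hPc
  have hsplit : Pc.Splits := IsAlgClosed.splits Pc
  have hcard : Multiset.card Pc.roots = P.natDegree := by
    rw [← hsplit.natDegree_eq_card_roots, hPc, hmonic.natDegree_map]
  have hconjP : Pc.map (starRingEnd ℂ) = Pc := by
    rw [hPc, Polynomial.map_map]
    congr 1
    exact Subsingleton.elim _ _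
  have hroots : Pc.roots.map (starRingEnd ℂ) = Pc.roots := by
    rw [← hsplit.roots_map (starRingEnd ℂ), hconjP]
  have hnr' : ∀ z ∈ Pc.roots, z.im ≠ 0 := hnr
  have h1 : Pc.roots = Pc.roots.filter (fun z => 0 < z.im) + Pc.roots.filter (fun z => z.im < 0) := by
    conv_lhs => rw [← Multiset.filter_add_not (fun z : ℂ => 0 < z.im) Pc.roots]
    congr 1
    apply Multiset.filter_congr
    intro z hz
    have := hnr' z hz
    constructor
    · intro h; exact lt_of_le_of_ne (not_lt.1 h) this
    · intro h; exact not_lt.2 h.le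
  have h2 : Pc.roots.filter (fun z => z.im < 0) =
      (Pc.roots.filter (fun z => 0 < z.im)).map (starRingEnd ℂ) := by
    conv_lhs => rw [← hroots]
    rw [Multiset.filter_map]
    congr 1
    apply Multiset.filter_congr
    intro z _
    simp [Complex.conj_im]
  have h3 := congrArg Multiset.card h1
  rw [Multiset.card_add, h2, Multiset.card_map, hcard] at h3
  exact ⟨_, h3⟩

end Main

end Groth.Agent.Lib.Helper6.WeilNumL
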