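import Groth.Agent.Lib.Helper6.WeilNumL.WNa
import Groth.Agent.Lib.Helper6.WeilNumL.WNb

/-!
# Weil numbers: ordinarity and the middle coefficient
-/

set_option autoImplicit false
set_option linter.unusedSectionVars false
set_option linter.unusedVariables false
set_option linter.unusedSimpArgs false
set_option linter.style.haveILetI false
set_option maxHeartbeats 400000

namespace Groth.Agent.Lib.Helper6.WeilNumL

open Polynomial

variable (p : ℕ) [Fact p.Prime]

theorem intCast_eq (a : ℤ) :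
    (a : PadicAlgCl p) = algebraMap ℚ_[p] (PadicAlgCl p) (a : ℚ_[p]) := by
  rw [map_intCast]

theorem norm_intCast_eq (a : ℤ) : ‖(a : PadicAlgCl p)‖ = ‖(a : ℚ_[p])‖ := by
  rw [intCast_eq]
  exact PadicAlgCl.norm_extends p _

theorem norm_intCast_le_one (a : ℤ) : ‖(a : PadicAlgCl p)‖ ≤ 1 := by
  rw [norm_intCast_eq]
  exact Padic.norm_int_le_one a

theorem norm_intCast_lt_one_iff (a : ℤ) : ‖(a : PadicAlgCl p)‖ < 1 ↔ (p : ℤ) ∣ a := by
  rw [norm_intCast_eq]
  exact Padic.norm_intCast_lt_one_iff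

theorem norm_intCast_eq_one_iff (a : ℤ) : ‖(a : PadicAlgCl p)‖ = 1 ↔ ¬ (p : ℤ) ∣ a := by
  rw [← norm_intCast_lt_one_iff]
  constructor
  · intro h; rw [h]; exact lt_irrefl _
  · intro h; exact le_antisymm (norm_intCast_le_one p a) (not_lt.1 h)

theorem norm_p_pos : 0 < ‖((p : ℤ) : PadicAlgCl p)‖ := by
  rw [norm_pos_iff]
  have : (p : ℤ) ≠ 0 := by exact_mod_cast (Fact.out : p.Prime).ne_zero
  exact_mod_cast this

theorem norm_p_lt_one : ‖((p : ℤ) : PadicAlgCl p)‖ < 1 := by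
  rw [norm_intCast_lt_one_iff]

theorem ordinary_iff (P : ℤ[X]) (hmonic : P.Monic)
    (hirr : Irreducible (P.map (Int.castRingHom ℚ))) (e : ℕ) (he : 0 < e)
    (hweil : ∀ z ∈ P.aroots ℂ, ‖z‖ = Real.sqrt ((p : ℝ) ^ e))
    (hnr : ∀ z ∈ P.aroots ℂ, z.im ≠ 0)
    [inst : DecidablePred fun z : PadicAlgCl p => ‖z‖ = 1] :
    2 * Multiset.card ((P.aroots (PadicAlgCl p)).filter (fun z => ‖z‖ = 1)) = P.natDegree ↔
      ¬ (p : ℤ) ∣ P.coeff (P.natDegree / 2) := by
  classical
  obtain rfl : inst = fun z => Classical.propDecidable _ := Subsingleton.elim _ _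
  have hp : p.Prime := Fact.out
  set q : ℕ := p ^ e with hq
  have hq0 : 0 < q := pow_pos hp.pos e
  have hweil' : ∀ z ∈ P.aroots ℂ, ‖z‖ = Real.sqrt (q : ℝ) := by
    intro z hz
    rw [hweil z hz, hq, Nat.cast_pow]
  obtain ⟨d, hd⟩ := even_natDegree P hmonic hnr
  have hrel := coeff_relation P hmonic hirr q hq0 hweil'
  set n := P.natDegree with hn
  have hnd : n / 2 = d := by omega
  rw [hnd]
  -- the p-adic side
  set PΩ : (PadicAlgCl p)[X] := P.map (algebraMap ℤ (PadicAlgCl p)) with hPΩ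
  have hmonΩ : PΩ.Monic := hmonic.map _
  have hsplit : PΩ.Splits := IsAlgClosed.splits PΩ
  have hprod : PΩ = prodPoly PΩ.roots := hsplit.eq_prod_roots_of_monic hmonΩ
  have hcard : Multiset.card PΩ.roots = n := by
    rw [← hsplit.natDegree_eq_card_roots, hPΩ, hmonic.natDegree_map]
  have hcoeff : ∀ k, PΩ.coeff k = ((P.coeff k : ℤ) : PadicAlgCl p) := by
    intro k
    rw [hPΩ, coeff_map, eq_intCast]
  have hcoeff_le : ∀ k, ‖PΩ.coeff k‖ ≤ 1 := fun k => by
    rw [hcoeff]; exact norm_intCast_le_one p _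
  have hroots_le : ∀ z ∈ PΩ.roots, ‖z‖ ≤ 1 := by
    intro z hz
    exact norm_root_le_one PΩ hmonΩ hcoeff_le z ((mem_roots hmonΩ.ne_zero).1 hz)
  obtain ⟨hlt, heq⟩ := coeff_prodPoly PΩ.roots hroots_le
  rw [← hprod] at hlt heq
  have huv : Multiset.card (PΩ.roots.filter (fun z => ‖z‖ = 1)) +
      Multiset.card (PΩ.roots.filter (fun z => ¬ ‖z‖ = 1)) = n := by
    rw [← Multiset.card_add, Multiset.filter_add_not, hcard]
  set u := Multiset.card (PΩ.roots.filter (fun z => ‖z‖ = 1)) with hu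
  set v := Multiset.card (PΩ.roots.filter (fun z => ¬ ‖z‖ = 1)) with hv
  -- norms of q and a_0
  set y : ℝ := ‖((q : ℤ) : PadicAlgCl p)‖ with hy
  have hy_eq : y = ‖((p : ℤ) : PadicAlgCl p)‖ ^ e := by
    rw [hy, hq, ← norm_pow]
    congr 1
    push_cast
    rfl
  have hy_pos : 0 < y := by rw [hy_eq]; exact pow_pos (norm_p_pos p) e
  have hy_lt : y < 1 := by
    rw [hy_eq]; exact pow_lt_one₀ (norm_nonneg _) (norm_p_lt_one p) he.ne'
  set x : ℝ := ‖((P.coeff 0 : ℤ) : PadicAlgCl p)‖ with hx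
  have hx_eq : x = y ^ d := by
    have h0 := hrel 0 (Nat.zero_le _)
    have hcn : P.coeff n = 1 := hmonic.coeff_natDegree
    rw [Nat.sub_zero, hcn, one_mul] at h0
    have h1 : y ^ n = x * x := by
      rw [hy, hx, ← norm_pow, ← norm_mul]
      congr 1
      exact_mod_cast h0
    have h2 : x ^ 2 = (y ^ d) ^ 2 := by
      rw [sq, ← h1, hd, ← pow_mul, ← two_mul, mul_comm]
    exact (sq_eq_sq₀ (norm_nonneg _) (pow_nonneg hy_pos.le d)).1 h2
  have hsmall : ∀ j, j < d → ‖((P.coeff j : ℤ) : PadicAlgCl p)‖ < 1 := by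
    intro j hj
    have h0 := hrel j (by omega)
    have h1 : ‖((P.coeff (n - j) : ℤ) : PadicAlgCl p)‖ * y ^ (n - j) =
        x * ‖((P.coeff j : ℤ) : PadicAlgCl p)‖ := by
      rw [hy, hx, ← norm_pow, ← norm_mul, ← norm_mul]
      congr 1
      exact_mod_cast h0
    have h2 : y ^ (n - j) = y ^ d * y ^ (d - j) := by
      rw [← pow_add]; congr 1; omega
    have h3 : y ^ d * ‖((P.coeff j : ℤ) : PadicAlgCl p)‖ ≤ y ^ d * y ^ (d - j) := by
      rw [← hx_eq, ← h1, h2, ← hx_eq]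
      calc ‖((P.coeff (n - j) : ℤ) : PadicAlgCl p)‖ * (x * y ^ (d - j))
          ≤ 1 * (x * y ^ (d - j)) :=
            mul_le_mul_of_nonneg_right (norm_intCast_le_one p _)
              (mul_nonneg (norm_nonneg _) (pow_nonneg hy_pos.le _))
        _ = x * y ^ (d - j) := one_mul _
    have h4 : ‖((P.coeff j : ℤ) : PadicAlgCl p)‖ ≤ y ^ (d - j) :=
      le_of_mul_le_mul_left h3 (pow_pos hy_pos d)
    have h5 : y ^ (d - j) < 1 := pow_lt_one₀ hy_pos.le hy_lt (by omega)
    linarith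
  have hvd : d ≤ v := by
    by_contra hcon
    push Not at hcon
    have := hsmall v hcon
    rw [hcoeff] at heq
    linarith
  rw [← norm_intCast_eq_one_iff]
  constructor
  · intro h
    have hv' : v = d := by omega
    rw [hcoeff, hv'] at heq
    exact heq
  · intro h
    have hv' : ¬ d < v := by
      intro hlt'
      have := hlt d hlt'
      rw [hcoeff] at this
      linarith
    omega

end Groth.Agent.Lib.Helper6.WeilNumL
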