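import Mathlib

/-!
# Weil numbers: basic facts on the family `(π_i)` and the ring `ℤ[F,V]/(FV - q)`
-/

set_option autoImplicit false
set_option linter.unusedSectionVars false
set_option linter.unusedVariables false
set_option linter.unusedSimpArgs false
set_option linter.style.haveILetI false
set_option maxHeartbeats 400000

namespace Groth.Agent.Lib.Helper6.WeilNumL

open Polynomial

section NeZero

variable {K : Type*} [Field K] [CharZero K] (π : K)

theorem pi_ne_zero (r : ℝ) (hr : 0 < r)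
    (hweil : ∀ z ∈ (minpoly ℤ π).aroots ℂ, ‖z‖ = r) : π ≠ 0 := by
  intro h0
  have hmin : minpoly ℤ π = X := by
    rw [h0]
    have := minpoly.eq_X_sub_C_of_algebraMap_inj (A := ℤ) (B := K) (0 : ℤ)
      (algebraMap ℤ K).injective_int
    rw [map_zero, map_zero, sub_zero] at this
    exact this
  have h1 : (0 : ℂ) ∈ (minpoly ℤ π).aroots ℂ := by
    rw [hmin, mem_aroots]
    exact ⟨X_ne_zero, by simp⟩
  have := hweil 0 h1
  rw [norm_zero] at this
  exact hr.ne this

end NeZero

section Dvd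

variable {ι : Type} [Fintype ι] (K : ι → Type*) [∀ i, Field (K i)] [∀ i, CharZero (K i)]
  (π : ∀ i, K i) (hint : ∀ i, IsIntegral ℤ (π i))
  (hinj : ∀ i j, minpoly ℤ (π i) = minpoly ℤ (π j) → i = j)

include hint hinj in
theorem prod_minpoly_dvd (g : ℤ[X]) (hg : ∀ i, aeval (π i) g = 0) :
    (∏ i, minpoly ℤ (π i)) ∣ g := by
  apply Fintype.prod_dvd_of_isRelPrime
  · intro i j hij
    show IsRelPrime (minpoly ℤ (π i)) (minpoly ℤ (π j))
    rw [(minpoly.irreducible (hint i)).isRelPrime_iff_not_dvd]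
    intro hdvd
    apply hij
    apply hinj
    have hassoc : Associated (minpoly ℤ (π i)) (minpoly ℤ (π j)) :=
      (minpoly.irreducible (hint i)).associated_of_dvd (minpoly.irreducible (hint j)) hdvd
    exact eq_of_monic_of_associated (minpoly.monic (hint i)) (minpoly.monic (hint j)) hassoc
  · intro i
    exact (minpoly.isIntegrallyClosed_dvd_iff (hint i) g).mp (hg i)

include hint in
theorem aeval_prod_minpoly (i : ι) : aeval (π i) (∏ j, minpoly ℤ (π j)) = 0 := by
  rw [map_prod]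
  exact Finset.prod_eq_zero (Finset.mem_univ i) (minpoly.aeval ℤ (π i))

end Dvd

section GT

open MvPolynomial in
/-- The `g̃` trick: `F^d g ≡ g̃(F)` modulo `FV - q`. -/
theorem exists_gt (q : ℤ) (g : MvPolynomial (Fin 2) ℤ) :
    ∃ (d : ℕ) (gt : ℤ[X]),
      (MvPolynomial.X 0 : MvPolynomial (Fin 2) ℤ) ^ d * g -
          Polynomial.aeval (MvPolynomial.X 0 : MvPolynomial (Fin 2) ℤ) gt ∈
        Ideal.span ({MvPolynomial.X 0 * MvPolynomial.X 1 - MvPolynomial.C q} :
          Set (MvPolynomial (Fin 2) ℤ)) := by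
  set J := Ideal.span ({MvPolynomial.X 0 * MvPolynomial.X 1 - MvPolynomial.C q} :
          Set (MvPolynomial (Fin 2) ℤ)) with hJ
  have hgen : (MvPolynomial.X 0 * MvPolynomial.X 1 - MvPolynomial.C q :
      MvPolynomial (Fin 2) ℤ) ∈ J := Ideal.subset_span rfl
  induction g using MvPolynomial.induction_on with
  | C a =>
    refine ⟨0, Polynomial.C a, ?_⟩
    rw [pow_zero, one_mul, Polynomial.aeval_C]
    have : (algebraMap ℤ (MvPolynomial (Fin 2) ℤ)) a = MvPolynomial.C a := rfl
    rw [this, sub_self]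
    exact J.zero_mem
  | add g1 g2 h1 h2 =>
    obtain ⟨d1, gt1, hd1⟩ := h1
    obtain ⟨d2, gt2, hd2⟩ := h2
    refine ⟨d1 + d2, Polynomial.X ^ d2 * gt1 + Polynomial.X ^ d1 * gt2, ?_⟩
    have e : (MvPolynomial.X 0 : MvPolynomial (Fin 2) ℤ) ^ (d1 + d2) * (g1 + g2) -
        Polynomial.aeval (MvPolynomial.X 0 : MvPolynomial (Fin 2) ℤ)
          (Polynomial.X ^ d2 * gt1 + Polynomial.X ^ d1 * gt2) =
        MvPolynomial.X 0 ^ d2 * (MvPolynomial.X 0 ^ d1 * g1 -
          Polynomial.aeval (MvPolynomial.X 0 : MvPolynomial (Fin 2) ℤ) gt1) +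
        MvPolynomial.X 0 ^ d1 * (MvPolynomial.X 0 ^ d2 * g2 -
          Polynomial.aeval (MvPolynomial.X 0 : MvPolynomial (Fin 2) ℤ) gt2) := by
      simp only [map_add, map_mul, map_pow, Polynomial.aeval_X]
      ring
    rw [e]
    exact J.add_mem (J.mul_mem_left _ hd1) (J.mul_mem_left _ hd2)
  | mul_X g i hg =>
    obtain ⟨d, gt, hd⟩ := hg
    fin_cases i
    · refine ⟨d, gt * Polynomial.X, ?_⟩
      have e : (MvPolynomial.X 0 : MvPolynomial (Fin 2) ℤ) ^ d * (g * MvPolynomial.X 0) -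
          Polynomial.aeval (MvPolynomial.X 0 : MvPolynomial (Fin 2) ℤ) (gt * Polynomial.X) =
          MvPolynomial.X 0 * (MvPolynomial.X 0 ^ d * g -
            Polynomial.aeval (MvPolynomial.X 0 : MvPolynomial (Fin 2) ℤ) gt) := by
        simp only [map_mul, Polynomial.aeval_X]
        ring
      show (MvPolynomial.X 0 : MvPolynomial (Fin 2) ℤ) ^ d * (g * MvPolynomial.X 0) - _ ∈ J
      rw [e]
      exact J.mul_mem_left _ hd
    · refine ⟨d + 1, Polynomial.C q * gt, ?_⟩
      have e : (MvPolynomial.X 0 : MvPolynomial (Fin 2) ℤ) ^ (d + 1) * (g * MvPolynomial.X 1) -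
          Polynomial.aeval (MvPolynomial.X 0 : MvPolynomial (Fin 2) ℤ) (Polynomial.C q * gt) =
          (MvPolynomial.X 0 * MvPolynomial.X 1) * (MvPolynomial.X 0 ^ d * g -
            Polynomial.aeval (MvPolynomial.X 0 : MvPolynomial (Fin 2) ℤ) gt) +
          Polynomial.aeval (MvPolynomial.X 0 : MvPolynomial (Fin 2) ℤ) gt *
            (MvPolynomial.X 0 * MvPolynomial.X 1 - MvPolynomial.C q) := by
        simp only [map_mul, Polynomial.aeval_C]
        have : (algebraMap ℤ (MvPolynomial (Fin 2) ℤ)) q = MvPolynomial.C q := rfl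
        rw [this]
        ring
      show (MvPolynomial.X 0 : MvPolynomial (Fin 2) ℤ) ^ (d + 1) * (g * MvPolynomial.X 1) - _ ∈ J
      rw [e]
      exact J.add_mem (J.mul_mem_left _ hd) (J.mul_mem_left _ hgen)

end GT

end Groth.Agent.Lib.Helper6.WeilNumL
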