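import Mathlib
import Groth.Agent.Lib.Helper6.WeilNumL.WNd

/-!
# Weil numbers: modules over the minimal central order (S18003)
-/

set_option autoImplicit false
set_option linter.unusedSectionVars false
set_option linter.unusedVariables false
set_option linter.unusedSimpArgs false
set_option linter.style.haveILetI false
set_option maxHeartbeats 400000

namespace Groth.Agent.Lib.Helper6.WeilNumL

open Polynomial

universe u

section EndFacts

variable {T : Type*} [AddCommGroup T] [Module.Finite ℤ T] [Module.Free ℤ T]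

theorem injective_of_comp_eq_smul (FT VT : T →ₗ[ℤ] T) (q : ℤ) (hq : q ≠ 0)
    (h : FT ∘ₗ VT = q • LinearMap.id) : Function.Injective FT := by
  have hdet : LinearMap.det FT * LinearMap.det VT = q ^ Module.finrank ℤ T := by
    rw [← LinearMap.det_comp, h, LinearMap.det_smul, LinearMap.det_id, mul_one]
  have hne : LinearMap.det FT ≠ 0 := by
    intro h0
    rw [h0, zero_mul] at hdet
    exact pow_ne_zero _ hq hdet.symm
  have hker : LinearMap.ker FT = ⊥ := by
    by_contra hk
    exact hne (LinearMap.det_eq_zero_iff_ker_ne_bot.mpr hk)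
  exact LinearMap.ker_eq_bot.mp hker

theorem comp_comm_of_comp_eq_smul (FT VT : T →ₗ[ℤ] T) (q : ℤ) (hq : q ≠ 0)
    (h : FT ∘ₗ VT = q • LinearMap.id) : VT ∘ₗ FT = q • LinearMap.id := by
  have hinj := injective_of_comp_eq_smul FT VT q hq h
  ext t
  apply hinj
  have h1 : FT (VT (FT t)) = q • FT t := by
    have := LinearMap.congr_fun h (FT t)
    simpa using this
  rw [LinearMap.comp_apply, h1, LinearMap.smul_apply, LinearMap.id_apply, map_smul]

end EndFacts

section Main

open MvPolynomial in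
theorem forward (q : ℤ)
    (ι : Type) [Fintype ι] (K : ι → Type u) [∀ i, Field (K i)] [∀ i, CharZero (K i)] (π : ∀ i, K i)
    (hπ : ∀ i, π i ≠ 0)
    (hint : ∀ i, IsIntegral ℤ (π i))
    (φ : MvPolynomial (Fin 2) ℤ →ₐ[ℤ] ((i : ι) → K i))
    (hX0 : φ (X 0) = fun i => π i) (hX1 : φ (X 1) = fun i => (q : K i) / π i)
    (T : Type) [AddCommGroup T] (FT : T →ₗ[ℤ] T)
    (inst : Module φ.range T)
    (hF : ∀ t : T, (⟨φ (X 0), AlgHom.mem_range_self _ _⟩ : φ.range) • t = FT t) :
    Polynomial.aeval FT (∏ i, minpoly ℤ (π i)) = 0 ∧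
        ∃ VT : T →ₗ[ℤ] T, FT ∘ₗ VT = q • LinearMap.id := by
  let ρ : φ.range →ₐ[ℤ] Module.End ℤ T :=
    ((addMonoidEndRingEquivInt T).toRingHom.comp (Module.toAddMonoidEnd φ.range T)).toIntAlgHom
  have hρ : ∀ (r : φ.range) (t : T), ρ r t = r • t := fun r t => rfl
  let Fc : φ.range := ⟨φ (X 0), AlgHom.mem_range_self _ _⟩
  let Vc : φ.range := ⟨φ (X 1), AlgHom.mem_range_self _ _⟩
  have hρF : ρ Fc = FT := LinearMap.ext fun t => by rw [hρ]; exact hF t
  refine ⟨?_, ρ Vc, ?_⟩
  · rw [← hρF, Polynomial.aeval_algHom_apply]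
    have : Polynomial.aeval Fc (∏ i, minpoly ℤ (π i)) = 0 := by
      apply Subtype.ext
      have h1 := Polynomial.aeval_algHom_apply φ.range.val Fc (∏ i, minpoly ℤ (π i))
      show φ.range.val (Polynomial.aeval Fc (∏ i, minpoly ℤ (π i))) = 0
      rw [← h1]
      show Polynomial.aeval (φ (X 0)) (∏ i, minpoly ℤ (π i)) = 0
      rw [hX0]
      funext i
      have h2 := Polynomial.aeval_algHom_apply (Pi.evalAlgHom ℤ K i) (fun i => π i)
        (∏ i, minpoly ℤ (π i))
      show (Pi.evalAlgHom ℤ K i) (Polynomial.aeval (fun i => π i) (∏ i, minpoly ℤ (π i))) = 0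
      rw [← h2]
      exact aeval_prod_minpoly K π hint i
    rw [this, map_zero]
  · rw [← hρF]
    have hFV : Fc * Vc = ((q : ℤ) : φ.range) := by
      apply Subtype.ext
      show φ (X 0) * φ (X 1) = ((q : ℤ) : φ.range).1
      rw [hX0, hX1]
      funext i
      have : (((q : ℤ) : φ.range).1) i = (q : K i) := by
        simp
      rw [this, Pi.mul_apply, mul_div_cancel₀ _ (hπ i)]
    have : ρ Fc ∘ₗ ρ Vc = ρ (Fc * Vc) := by
      rw [map_mul]
      rfl
    rw [this, hFV, map_intCast]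
    ext t
    simp

set_option linter.deprecated false in
open MvPolynomial in
theorem backward (q : ℤ) (hq : q ≠ 0)
    (ι : Type) [Fintype ι] (K : ι → Type u) [∀ i, Field (K i)] [∀ i, CharZero (K i)] (π : ∀ i, K i)
    (hπ : ∀ i, π i ≠ 0)
    (hint : ∀ i, IsIntegral ℤ (π i))
    (hinj : ∀ i j, minpoly ℤ (π i) = minpoly ℤ (π j) → i = j)
    (φ : MvPolynomial (Fin 2) ℤ →ₐ[ℤ] ((i : ι) → K i))
    (hX0 : φ (X 0) = fun i => π i) (hX1 : φ (X 1) = fun i => (q : K i) / π i)
    (T : Type) [AddCommGroup T] [Module.Finite ℤ T] [Module.Free ℤ T] (FT : T →ₗ[ℤ] T)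
    (hP : Polynomial.aeval FT (∏ i, minpoly ℤ (π i)) = 0)
    (VT : T →ₗ[ℤ] T) (hFV : FT ∘ₗ VT = q • LinearMap.id) :
    ∃ _ : Module φ.range T,
      ∀ t : T, (⟨φ (X 0), AlgHom.mem_range_self _ _⟩ : φ.range) • t = FT t := by
  have hinjF := injective_of_comp_eq_smul FT VT q hq hFV
  have hVF := comp_comm_of_comp_eq_smul FT VT q hq hFV
  have hcomm : FT * VT = VT * FT := by
    rw [Module.End.mul_eq_comp, Module.End.mul_eq_comp, hFV, hVF]
  let s : Set (Module.End ℤ T) := {FT, VT}
  have hs : ∀ a ∈ s, ∀ b ∈ s, a * b = b * a := by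
    rintro a (rfl | rfl) b (rfl | rfl)
    · rfl
    · exact hcomm
    · exact hcomm.symm
    · rfl
  letI : CommRing (Algebra.adjoin ℤ s) := Algebra.adjoinCommRingOfComm ℤ hs
  let Fs : Algebra.adjoin ℤ s := ⟨FT, Algebra.subset_adjoin (Or.inl rfl)⟩
  let Vs : Algebra.adjoin ℤ s := ⟨VT, Algebra.subset_adjoin (Or.inr rfl)⟩
  let Φ : MvPolynomial (Fin 2) ℤ →ₐ[ℤ] Algebra.adjoin ℤ s := MvPolynomial.aeval ![Fs, Vs]
  have hΦ0 : Φ (X 0) = Fs := by
    show MvPolynomial.aeval ![Fs, Vs] (X 0) = Fs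
    rw [MvPolynomial.aeval_X]
    rfl
  have hΦ1 : Φ (X 1) = Vs := by
    show MvPolynomial.aeval ![Fs, Vs] (X 1) = Vs
    rw [MvPolynomial.aeval_X]
    rfl
  have hFsVs : Fs * Vs = algebraMap ℤ (Algebra.adjoin ℤ s) q := by
    apply Subtype.ext
    show FT * VT = algebraMap ℤ (Module.End ℤ T) q
    rw [Module.End.mul_eq_comp, hFV]
    ext t
    simp
  have hker : RingHom.ker φ.rangeRestrict.toRingHom ≤ RingHom.ker Φ.toRingHom := by
    intro g hg
    have hg0 : φ g = 0 := by
      have := congrArg Subtype.val (RingHom.mem_ker.mp hg)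
      exact this
    obtain ⟨d, gt, hgt⟩ := exists_gt q g
    -- apply φ
    have hφJ : ∀ x ∈ Ideal.span ({X 0 * X 1 - MvPolynomial.C q} : Set (MvPolynomial (Fin 2) ℤ)), φ x = 0 := by
      intro x hx
      have hle : Ideal.span ({X 0 * X 1 - MvPolynomial.C q} : Set (MvPolynomial (Fin 2) ℤ)) ≤
          RingHom.ker φ.toRingHom := by
        rw [Ideal.span_le, Set.singleton_subset_iff]
        show φ (X 0 * X 1 - MvPolynomial.C q) = 0
        rw [map_sub, map_mul, hX0, hX1]
        funext i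
        have : (φ (MvPolynomial.C q)) i = (q : K i) := by
          have h1 : φ (MvPolynomial.C q) = algebraMap ℤ _ q := φ.commutes q
          rw [h1]
          simp
        rw [Pi.sub_apply, Pi.mul_apply, this, mul_div_cancel₀ _ (hπ i), sub_self]
        rfl
      exact hle hx
    have hΦJ : ∀ x ∈ Ideal.span ({X 0 * X 1 - MvPolynomial.C q} : Set (MvPolynomial (Fin 2) ℤ)), Φ x = 0 := by
      intro x hx
      have hle : Ideal.span ({X 0 * X 1 - MvPolynomial.C q} : Set (MvPolynomial (Fin 2) ℤ)) ≤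
          RingHom.ker Φ.toRingHom := by
        rw [Ideal.span_le, Set.singleton_subset_iff]
        show Φ (X 0 * X 1 - MvPolynomial.C q) = 0
        rw [map_sub, map_mul, hΦ0, hΦ1, hFsVs, sub_eq_zero]
        exact (Φ.commutes q).symm
      exact hle hx
    have h1 := hφJ _ hgt
    rw [map_sub, map_mul, hg0, mul_zero, zero_sub, neg_eq_zero,
      ← Polynomial.aeval_algHom_apply, hX0] at h1
    have hroots : ∀ i, Polynomial.aeval (π i) gt = 0 := by
      intro i
      have h2 := Polynomial.aeval_algHom_apply (Pi.evalAlgHom ℤ K i) (fun i => π i) gt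
      have h3 : (Pi.evalAlgHom ℤ K i) (Polynomial.aeval (fun i => π i) gt) = 0 := by
        rw [h1]
        rfl
      rw [← h2] at h3
      exact h3
    obtain ⟨u, hu⟩ := prod_minpoly_dvd K π hint hinj gt hroots
    have hgtF : Polynomial.aeval FT gt = 0 := by
      rw [hu, map_mul, hP, zero_mul]
    have h4 := hΦJ _ hgt
    rw [map_sub, map_mul, map_pow, hΦ0, ← Polynomial.aeval_algHom_apply, hΦ0, sub_eq_zero] at h4
    have h5 : Polynomial.aeval Fs gt = 0 := by
      apply Subtype.ext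
      have h6 := Polynomial.aeval_algHom_apply (Algebra.adjoin ℤ s).val Fs gt
      show (Algebra.adjoin ℤ s).val (Polynomial.aeval Fs gt) = 0
      rw [← h6]
      exact hgtF
    rw [h5] at h4
    -- FT^d * Φ g = 0
    have h7 : (FT ^ d) * (Φ g : Module.End ℤ T) = 0 := by
      have := congrArg Subtype.val h4
      exact this
    show Φ g = 0
    apply Subtype.ext
    show (Φ g : Module.End ℤ T) = 0
    ext t
    have hinjd : Function.Injective (FT ^ d) := by
      rw [Module.End.coe_pow]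
      exact hinjF.iterate d
    apply hinjd
    have := LinearMap.congr_fun h7 t
    rw [Module.End.mul_apply] at this
    rw [this]
    simp
  let Θ : φ.range →ₐ[ℤ] Algebra.adjoin ℤ s :=
    AlgHom.liftOfSurjective φ.rangeRestrict φ.rangeRestrict_surjective Φ hker
  let Ψ : φ.range →+* Module.End ℤ T := (Algebra.adjoin ℤ s).val.toRingHom.comp Θ.toRingHom
  refine ⟨Module.compHom T Ψ, ?_⟩
  intro t
  have h8 : Θ (φ.rangeRestrict (X 0)) = Φ (X 0) :=
    AlgHom.liftOfSurjective_apply φ.rangeRestrict φ.rangeRestrict_surjective Φ hker (X 0)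
  show (Ψ ⟨φ (X 0), AlgHom.mem_range_self _ _⟩) t = FT t
  show ((Θ (φ.rangeRestrict (X 0)) : Algebra.adjoin ℤ s) : Module.End ℤ T) t = FT t
  rw [h8, hΦ0]

end Main

end Groth.Agent.Lib.Helper6.WeilNumL
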