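import Mathlib
import Groth.Agent.Lib.Helper6.WeilNumL.WNd

/-!
# Weil numbers: the ring `ℤ[F,V]/(FV - q)` inside Laurent polynomials, and a Gauss-type lemma
-/

set_option autoImplicit false
set_option linter.unusedSectionVars false
set_option linter.unusedVariables false
set_option linter.unusedSimpArgs false
set_option linter.style.haveILetI false
set_option maxHeartbeats 400000

namespace Groth.Agent.Lib.Helper6.WeilNumL

open Polynomial

section Quot

variable (q : ℤ)

/-- The ideal `(FV - q)`. -/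
noncomputable abbrev Jq : Ideal (MvPolynomial (Fin 2) ℤ) :=
  Ideal.span ({MvPolynomial.X 0 * MvPolynomial.X 1 - MvPolynomial.C q} :
    Set (MvPolynomial (Fin 2) ℤ))

theorem gen_mem_Jq :
    (MvPolynomial.X 0 * MvPolynomial.X 1 - MvPolynomial.C q : MvPolynomial (Fin 2) ℤ) ∈ Jq q :=
  Ideal.subset_span rfl

theorem cancel_X0 (hq : q ≠ 0) (x : MvPolynomial (Fin 2) ℤ)
    (h : MvPolynomial.X 0 * x ∈ Jq q) : x ∈ Jq q := by
  rw [Ideal.mem_span_singleton] at h ⊢
  obtain ⟨r, hr⟩ := h
  have hprime : Prime (MvPolynomial.X 0 : MvPolynomial (Fin 2) ℤ) := MvPolynomial.X_prime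
  have hdvd : (MvPolynomial.X 0 : MvPolynomial (Fin 2) ℤ) ∣
      (MvPolynomial.X 0 * MvPolynomial.X 1 - MvPolynomial.C q) * r := ⟨x, hr.symm⟩
  rcases hprime.dvd_or_dvd hdvd with h1 | h1
  · exfalso
    have h2 : (MvPolynomial.X 0 : MvPolynomial (Fin 2) ℤ) ∣ MvPolynomial.C q := by
      have h3 : (MvPolynomial.X 0 : MvPolynomial (Fin 2) ℤ) ∣
          MvPolynomial.X 0 * MvPolynomial.X 1 := dvd_mul_right _ _
      have := dvd_sub h3 h1
      simpa using this
    obtain ⟨s, hs⟩ := h2
    have := congrArg MvPolynomial.constantCoeff hs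
    simp at this
    exact hq this
  · obtain ⟨r', rfl⟩ := h1
    refine ⟨r', ?_⟩
    have hX : (MvPolynomial.X 0 : MvPolynomial (Fin 2) ℤ) ≠ 0 := MvPolynomial.X_ne_zero 0
    apply mul_left_cancel₀ hX
    rw [hr]; ring

theorem cancel_X0_pow (hq : q ≠ 0) (d : ℕ) (x : MvPolynomial (Fin 2) ℤ)
    (h : MvPolynomial.X 0 ^ d * x ∈ Jq q) : x ∈ Jq q := by
  induction d with
  | zero => simpa using h
  | succ d ih =>
    apply ih
    apply cancel_X0 q hq
    rw [← mul_assoc, ← pow_succ']
    exact h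

/-- The embedding of `ℤ[F,V]/(FV-q)` into Laurent polynomials. -/
noncomputable def rho : MvPolynomial (Fin 2) ℤ →+* LaurentPolynomial ℤ :=
  MvPolynomial.eval₂Hom LaurentPolynomial.C
    ![LaurentPolynomial.T 1, LaurentPolynomial.C q * LaurentPolynomial.T (-1)]

theorem rho_X0 : rho q (MvPolynomial.X 0) = LaurentPolynomial.T 1 := by
  unfold rho
  rw [MvPolynomial.eval₂Hom_X']
  rfl

theorem rho_X1 : rho q (MvPolynomial.X 1) = LaurentPolynomial.C q * LaurentPolynomial.T (-1) := by
  unfold rho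
  rw [MvPolynomial.eval₂Hom_X']
  rfl

theorem rho_C (a : ℤ) : rho q (MvPolynomial.C a) = LaurentPolynomial.C a := by
  unfold rho
  rw [MvPolynomial.eval₂Hom_C]

theorem rho_gen :
    rho q (MvPolynomial.X 0 * MvPolynomial.X 1 - MvPolynomial.C q) = 0 := by
  rw [map_sub, map_mul, rho_X0, rho_X1, rho_C, mul_left_comm, ← LaurentPolynomial.T_add]
  norm_num

theorem rho_Jq (x : MvPolynomial (Fin 2) ℤ) (hx : x ∈ Jq q) : rho q x = 0 := by
  have hle : Jq q ≤ RingHom.ker (rho q) := by
    rw [Ideal.span_le, Set.singleton_subset_iff]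
    exact rho_gen q
  exact hle hx

theorem rho_aeval (G : ℤ[X]) :
    rho q (Polynomial.aeval (MvPolynomial.X 0 : MvPolynomial (Fin 2) ℤ) G) =
      Polynomial.toLaurent G := by
  have : (rho q).comp
      (Polynomial.aeval (MvPolynomial.X 0 : MvPolynomial (Fin 2) ℤ)).toRingHom =
      Polynomial.toLaurent := by
    apply Polynomial.ringHom_ext
    · intro a
      show rho q (Polynomial.aeval (MvPolynomial.X 0 : MvPolynomial (Fin 2) ℤ) (Polynomial.C a)) = _
      rw [Polynomial.aeval_C, Polynomial.toLaurent_C]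
      exact rho_C q a
    · show rho q (Polynomial.aeval (MvPolynomial.X 0 : MvPolynomial (Fin 2) ℤ) Polynomial.X) = _
      rw [Polynomial.aeval_X, Polynomial.toLaurent_X, rho_X0]
  exact congrArg (fun f => f G) this

/-- Divisibility of the negative-degree coefficients by powers of `q`. -/
def IsLam (z : LaurentPolynomial ℤ) : Prop := ∀ k : ℕ, q ^ k ∣ z.coeff (-(k : ℤ))

theorem isLam_add (z w : LaurentPolynomial ℤ) (hz : IsLam q z) (hw : IsLam q w) :
    IsLam q (z + w) := by
  intro k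
  rw [AddMonoidAlgebra.coeff_add, Finsupp.add_apply]
  exact dvd_add (hz k) (hw k)

theorem isLam_C (a : ℤ) : IsLam q (LaurentPolynomial.C a) := by
  intro k
  rw [LaurentPolynomial.C_apply]
  rcases Nat.eq_zero_or_pos k with rfl | hk
  · simp
  · rw [if_neg (by omega)]
    exact dvd_zero _

theorem isLam_T_mul (z : LaurentPolynomial ℤ) (hz : IsLam q z) :
    IsLam q (LaurentPolynomial.T 1 * z) := by
  intro k
  have h1 : (LaurentPolynomial.T 1 * z).coeff (-(k : ℤ)) = z.coeff (-((k + 1 : ℕ) : ℤ)) := by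
    show ((AddMonoidAlgebra.single (1 : ℤ) (1 : ℤ)) * z).coeff (-(k : ℤ)) = _
    rw [AddMonoidAlgebra.coeff_single_mul_apply, one_mul]
    congr 1
    push_cast
    ring
  rw [h1]
  exact dvd_trans (pow_dvd_pow q (Nat.le_succ k)) (hz (k + 1))

theorem isLam_V_mul (z : LaurentPolynomial ℤ) (hz : IsLam q z) :
    IsLam q (LaurentPolynomial.C q * LaurentPolynomial.T (-1) * z) := by
  intro k
  have h1 : (LaurentPolynomial.C q * LaurentPolynomial.T (-1) * z).coeff (-(k : ℤ)) =
      q * z.coeff (1 - (k : ℤ)) := by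
    rw [← LaurentPolynomial.single_eq_C_mul_T]
    rw [AddMonoidAlgebra.coeff_single_mul_apply]
    congr 2
  rw [h1]
  rcases Nat.eq_zero_or_pos k with rfl | hk
  · simp
  · obtain ⟨j, rfl⟩ : ∃ j, k = j + 1 := ⟨k - 1, by omega⟩
    have h2 : (1 : ℤ) - ((j + 1 : ℕ) : ℤ) = -(j : ℤ) := by push_cast; ring
    rw [h2, pow_succ']
    exact mul_dvd_mul_left q (hz j)

theorem isLam_rho (y : MvPolynomial (Fin 2) ℤ) : IsLam q (rho q y) := by
  induction y using MvPolynomial.induction_on with
  | C a => rw [rho_C]; exact isLam_C q a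
  | add g1 g2 h1 h2 => rw [map_add]; exact isLam_add q _ _ h1 h2
  | mul_X g i hg =>
    fin_cases i
    · show IsLam q (rho q (g * MvPolynomial.X 0))
      rw [map_mul, rho_X0, mul_comm]
      exact isLam_T_mul q _ hg
    · show IsLam q (rho q (g * MvPolynomial.X 1))
      rw [map_mul, rho_X1, mul_comm]
      exact isLam_V_mul q _ hg

theorem toLaurent_coeff_natCast (G : ℤ[X]) (k : ℕ) :
    (Polynomial.toLaurent G).coeff (k : ℤ) = G.coeff k := by
  rw [LaurentPolynomial.coeff_toLaurent]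
  have := Finsupp.mapDomain_apply (Nat.castEmbedding (R := ℤ)).injective G.toFinsupp.coeff k
  exact this

end Quot

section LamPoly

variable (q : ℤ)

/-- `q^(d-k) ∣ G_k` for `k < d`. -/
def Lam (G : ℤ[X]) (d : ℕ) : Prop := ∀ k, k < d → q ^ (d - k) ∣ G.coeff k

/-- (P3') -/
theorem lam_of_mem (G : ℤ[X]) (d : ℕ) (y : MvPolynomial (Fin 2) ℤ)
    (h : Polynomial.aeval (MvPolynomial.X 0 : MvPolynomial (Fin 2) ℤ) G -
      MvPolynomial.X 0 ^ d * y ∈ Jq q) : Lam q G d := by
  have h1 := rho_Jq q _ h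
  rw [map_sub, map_mul, map_pow, rho_X0, rho_aeval, sub_eq_zero, LaurentPolynomial.T_pow,
    mul_one] at h1
  intro k hk
  have h2 := isLam_rho q y (d - k)
  have h3 : (Polynomial.toLaurent G).coeff (k : ℤ) = (rho q y).coeff (-((d - k : ℕ) : ℤ)) := by
    rw [h1]
    show ((AddMonoidAlgebra.single ((d : ℕ) : ℤ) (1 : ℤ)) * rho q y).coeff (k : ℤ) = _
    rw [AddMonoidAlgebra.coeff_single_mul_apply, one_mul]
    congr 1
    rw [Nat.cast_sub hk.le]
    ring
  rw [toLaurent_coeff_natCast] at h3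
  rw [h3]
  exact h2

/-- (P2) -/
theorem exists_of_lam (d : ℕ) : ∀ (G : ℤ[X]), Lam q G d →
    ∃ y : MvPolynomial (Fin 2) ℤ,
      Polynomial.aeval (MvPolynomial.X 0 : MvPolynomial (Fin 2) ℤ) G -
        MvPolynomial.X 0 ^ d * y ∈ Jq q := by
  induction d with
  | zero =>
    intro G _
    refine ⟨Polynomial.aeval (MvPolynomial.X 0 : MvPolynomial (Fin 2) ℤ) G, ?_⟩
    rw [pow_zero, one_mul, sub_self]
    exact (Jq q).zero_mem
  | succ d ih =>
    intro G hG
    have hG' : Lam q G.divX d := by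
      intro k hk
      rw [Polynomial.coeff_divX]
      have := hG (k + 1) (by omega)
      have e : d + 1 - (k + 1) = d - k := by omega
      rwa [e] at this
    obtain ⟨y', hy'⟩ := ih G.divX hG'
    obtain ⟨c, hc⟩ := hG 0 (by omega)
    rw [Nat.sub_zero] at hc
    refine ⟨y' + MvPolynomial.C c * MvPolynomial.X 1 ^ (d + 1), ?_⟩
    have hpow : (MvPolynomial.C q : MvPolynomial (Fin 2) ℤ) ^ (d + 1) -
        (MvPolynomial.X 0 * MvPolynomial.X 1) ^ (d + 1) ∈ Jq q := by
      rw [Ideal.mem_span_singleton]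
      have h1 := sub_dvd_pow_sub_pow (MvPolynomial.X 0 * MvPolynomial.X 1 :
        MvPolynomial (Fin 2) ℤ) (MvPolynomial.C q) (d + 1)
      have h2 : (MvPolynomial.C q : MvPolynomial (Fin 2) ℤ) ^ (d + 1) -
          (MvPolynomial.X 0 * MvPolynomial.X 1) ^ (d + 1) =
          -((MvPolynomial.X 0 * MvPolynomial.X 1) ^ (d + 1) -
            (MvPolynomial.C q : MvPolynomial (Fin 2) ℤ) ^ (d + 1)) := by ring
      rw [h2]
      exact (dvd_neg).2 h1
    have hGeq : Polynomial.aeval (MvPolynomial.X 0 : MvPolynomial (Fin 2) ℤ) G =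
        Polynomial.aeval (MvPolynomial.X 0 : MvPolynomial (Fin 2) ℤ) G.divX * MvPolynomial.X 0 +
          MvPolynomial.C c * (MvPolynomial.C q : MvPolynomial (Fin 2) ℤ) ^ (d + 1) := by
      conv_lhs => rw [← Polynomial.divX_mul_X_add G]
      rw [map_add, map_mul, Polynomial.aeval_X, Polynomial.aeval_C, hc]
      have : (algebraMap ℤ (MvPolynomial (Fin 2) ℤ)) (q ^ (d + 1) * c) =
          MvPolynomial.C c * (MvPolynomial.C q : MvPolynomial (Fin 2) ℤ) ^ (d + 1) := by
        show MvPolynomial.C (q ^ (d + 1) * c) = _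
        rw [map_mul, map_pow, mul_comm]
      rw [this]
    have e : Polynomial.aeval (MvPolynomial.X 0 : MvPolynomial (Fin 2) ℤ) G -
        MvPolynomial.X 0 ^ (d + 1) * (y' + MvPolynomial.C c * MvPolynomial.X 1 ^ (d + 1)) =
        MvPolynomial.X 0 * (Polynomial.aeval (MvPolynomial.X 0 : MvPolynomial (Fin 2) ℤ) G.divX -
          MvPolynomial.X 0 ^ d * y') +
        MvPolynomial.C c * ((MvPolynomial.C q : MvPolynomial (Fin 2) ℤ) ^ (d + 1) -
          (MvPolynomial.X 0 * MvPolynomial.X 1) ^ (d + 1)) := by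
      rw [hGeq]
      ring
    rw [e]
    exact (Jq q).add_mem ((Jq q).mul_mem_left _ hy') ((Jq q).mul_mem_left _ hpow)

/-- (P4) Gauss-type lemma. -/
theorem lam_gauss (hq : q ≠ 0) (P : ℤ[X]) (D : ℕ) (hP : Lam q P D)
    (hP0 : P.coeff 0 = q ^ D ∨ P.coeff 0 = -q ^ D) :
    ∀ (s : ℕ) (E : ℤ[X]), Lam q (P * E) (D + s) → Lam q E s := by
  intro s
  induction s with
  | zero => intro E _ k hk; omega
  | succ s ih =>
    intro E hE
    -- E_0 divisible by q^(s+1)
    have hE0 : q ^ (s + 1) ∣ E.coeff 0 := by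
      have h1 := hE 0 (by omega)
      rw [Nat.sub_zero, Polynomial.mul_coeff_zero] at h1
      have hqD : q ^ D ≠ 0 := pow_ne_zero _ hq
      rcases hP0 with h0 | h0
      · rw [h0, pow_add] at h1
        exact (mul_dvd_mul_iff_left hqD).1 h1
      · rw [h0, pow_add, neg_mul, dvd_neg] at h1
        exact (mul_dvd_mul_iff_left hqD).1 h1
    -- Lam (P * divX E) (D + s)
    have hE' : Lam q (P * E.divX) (D + s) := by
      intro k hk
      have hEeq : P * E = P * E.divX * Polynomial.X + Polynomial.C (E.coeff 0) * P := by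
        conv_lhs => rw [← Polynomial.divX_mul_X_add E]
        ring
      have hc : (P * E.divX).coeff k = (P * E).coeff (k + 1) - E.coeff 0 * P.coeff (k + 1) := by
        rw [hEeq, Polynomial.coeff_add, Polynomial.coeff_mul_X, Polynomial.coeff_C_mul]
        ring
      rw [hc]
      apply dvd_sub
      · have := hE (k + 1) (by omega)
        have e : D + (s + 1) - (k + 1) = D + s - k := by omega
        rwa [e] at this
      · rcases Nat.lt_or_ge (k + 1) D with hlt | hge
        · have h2 := hP (k + 1) hlt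
          have e : D + s - k = (s + 1) + (D - (k + 1)) := by omega
          rw [e, pow_add]
          exact mul_dvd_mul hE0 h2
        · have e : D + s - k ≤ s + 1 := by omega
          exact dvd_mul_of_dvd_left (dvd_trans (pow_dvd_pow q e) hE0) _
    have hih := ih E.divX hE'
    intro k hk
    rcases Nat.eq_zero_or_pos k with rfl | hk0
    · rw [Nat.sub_zero]; exact hE0
    · obtain ⟨j, rfl⟩ : ∃ j, k = j + 1 := ⟨k - 1, by omega⟩
      have := hih j (by omega)
      rw [Polynomial.coeff_divX] at this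
      have e : s + 1 - (j + 1) = s - j := by omega
      rwa [e]

end LamPoly

end Groth.Agent.Lib.Helper6.WeilNumL
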