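import Mathlib
import Groth.Agent.Lib.Helper6.WeilNumL.WNb
import Groth.Agent.Lib.Helper6.WeilNumL.WNf

/-!
# Weil numbers: `R_w = ℤ[F,V]/(FV - q, h)` is a complete intersection (S17984)
-/

set_option autoImplicit false
set_option linter.unusedSectionVars false
set_option linter.unusedVariables false
set_option linter.unusedSimpArgs false
set_option linter.style.haveILetI false
set_option maxHeartbeats 400000

namespace Groth.Agent.Lib.Helper6.WeilNumL

open Polynomial

universe u

section Reg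

variable {R : Type*} [CommRing R]

theorem isSMulRegular_quot_of (N : Submodule R R) (a : R) (h : ∀ x, a * x ∈ N → x ∈ N) :
    IsSMulRegular (R ⧸ N) a := by
  intro u v huv
  induction u using Submodule.Quotient.induction_on with
  | H x =>
    induction v using Submodule.Quotient.induction_on with
    | H y =>
      have h1 : (Submodule.Quotient.mk (a • x) : R ⧸ N) = Submodule.Quotient.mk (a • y) := huv
      rw [Submodule.Quotient.eq] at h1 ⊢
      apply h
      rw [mul_sub]
      exact h1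

theorem isWeaklyRegular_pair (a b : R)
    (ha : ∀ x, a * x = 0 → x = 0)
    (hb : ∀ x, b * x ∈ Ideal.span {a} → x ∈ Ideal.span {a}) :
    RingTheory.Sequence.IsWeaklyRegular R [a, b] := by
  refine ⟨fun i hi => ?_⟩
  have hi' : i < 2 := by simpa using hi
  interval_cases i
  · apply isSMulRegular_quot_of
    intro x hx
    have hN : (Ideal.ofList (([a, b] : List R).take 0) • (⊤ : Submodule R R)) = ⊥ := by simp
    rw [hN] at hx ⊢
    rw [Submodule.mem_bot] at hx ⊢
    exact ha x hx
  · apply isSMulRegular_quot_of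
    intro x hx
    have hN : (Ideal.ofList (([a, b] : List R).take 1) • (⊤ : Submodule R R)) =
        Ideal.span {a} := by
      simp [Ideal.ofList_singleton]
    rw [hN] at hx ⊢
    exact hb x hx

end Reg

section Main

open MvPolynomial in
theorem ker_eq_and_regular (q : ℤ) (hq : q ≠ 0)
    (ι : Type) [Fintype ι] (K : ι → Type u) [∀ i, Field (K i)] [∀ i, CharZero (K i)] (π : ∀ i, K i)
    (hπ : ∀ i, π i ≠ 0)
    (hint : ∀ i, IsIntegral ℤ (π i))
    (hinj : ∀ i j, minpoly ℤ (π i) = minpoly ℤ (π j) → i = j)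
    (φ : MvPolynomial (Fin 2) ℤ →ₐ[ℤ] ((i : ι) → K i))
    (hX0 : φ (X 0) = fun i => π i) (hX1 : φ (X 1) = fun i => (q : K i) / π i)
    (D : ℕ)
    (hP0 : (∏ i, minpoly ℤ (π i)).coeff 0 = q ^ D ∨ (∏ i, minpoly ℤ (π i)).coeff 0 = -q ^ D)
    (h : MvPolynomial (Fin 2) ℤ)
    (hh : X 0 ^ D * h - Polynomial.aeval (X 0 : MvPolynomial (Fin 2) ℤ) (∏ i, minpoly ℤ (π i)) ∈
      Ideal.span ({X 0 * X 1 - MvPolynomial.C q} : Set (MvPolynomial (Fin 2) ℤ))) :
    RingHom.ker φ = Ideal.span {X 0 * X 1 - MvPolynomial.C q, h} ∧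
      RingTheory.Sequence.IsWeaklyRegular (MvPolynomial (Fin 2) ℤ)
        [X 0 * X 1 - MvPolynomial.C q, h] := by
  set Pw : ℤ[X] := ∏ i, minpoly ℤ (π i) with hPw
  set A : MvPolynomial (Fin 2) ℤ := Polynomial.aeval (X 0 : MvPolynomial (Fin 2) ℤ) Pw with hA
  have hhJ : X 0 ^ D * h - A ∈ Jq q := hh
  have hhJ' : A - X 0 ^ D * h ∈ Jq q := by
    have := (Jq q).neg_mem hhJ
    rwa [neg_sub] at this
  have hPwne : Pw ≠ 0 :=
    (Polynomial.monic_prod_of_monic _ _ (fun i _ => minpoly.monic (hint i))).ne_zero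
  have hLamPw : Lam q Pw D := lam_of_mem q Pw D h hhJ'
  -- φ kills J
  have hφJ : ∀ x ∈ Jq q, φ x = 0 := by
    intro x hx
    have hle : Jq q ≤ RingHom.ker φ.toRingHom := by
      rw [Ideal.span_le, Set.singleton_subset_iff]
      show φ (X 0 * X 1 - MvPolynomial.C q) = 0
      rw [map_sub, map_mul, hX0, hX1]
      funext i
      have : (φ (MvPolynomial.C q)) i = (q : K i) := by
        have h1 : φ (MvPolynomial.C q) = algebraMap ℤ _ q := φ.commutes q
        rw [h1]
        simp
      rw [Pi.sub_apply, Pi.mul_apply, this, mul_div_cancel₀ _ (hπ i), sub_self]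
      rfl
    exact hle hx
  have haevalPi : ∀ (G : ℤ[X]) (i : ι),
      (Polynomial.aeval (fun i => π i) G : (i : ι) → K i) i = Polynomial.aeval (π i) G := by
    intro G i
    have h2 := Polynomial.aeval_algHom_apply (Pi.evalAlgHom ℤ K i) (fun i => π i) G
    exact h2.symm
  have hφaeval : ∀ G : ℤ[X], φ (Polynomial.aeval (X 0 : MvPolynomial (Fin 2) ℤ) G) =
      Polynomial.aeval (fun i => π i) G := by
    intro G
    rw [← Polynomial.aeval_algHom_apply, hX0]
  -- φ h = 0
  have hφh : φ h = 0 := by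
    have h1 := hφJ _ hhJ
    rw [map_sub, map_mul, map_pow, hX0, hA, hφaeval] at h1
    funext i
    have h2 := congrFun h1 i
    rw [Pi.sub_apply, Pi.mul_apply, haevalPi, aeval_prod_minpoly K π hint i, sub_zero,
      Pi.pow_apply] at h2
    rcases mul_eq_zero.1 h2 with h3 | h3
    · exact absurd (pow_eq_zero_iff (n := D) (by
        intro hD0
        rw [hD0, pow_zero] at h3
        exact one_ne_zero h3) |>.1 h3) (hπ i)
    · exact h3
  have hJle : Jq q ≤ Ideal.span {X 0 * X 1 - MvPolynomial.C q, h} := by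
    apply Ideal.span_mono
    intro x hx
    rw [Set.mem_singleton_iff] at hx
    rw [hx]
    exact Or.inl rfl
  have hhmem : h ∈ Ideal.span ({X 0 * X 1 - MvPolynomial.C q, h} :
      Set (MvPolynomial (Fin 2) ℤ)) := Ideal.subset_span (Or.inr rfl)
  refine ⟨?_, ?_⟩
  · apply le_antisymm
    · intro g hg
      have hg0 : φ g = 0 := hg
      obtain ⟨d, gt, hgt⟩ := exists_gt q g
      have h1 := hφJ _ hgt
      rw [map_sub, map_mul, hg0, mul_zero, zero_sub, neg_eq_zero, hφaeval] at h1
      have hroots : ∀ i, Polynomial.aeval (π i) gt = 0 := by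
        intro i
        rw [← haevalPi, h1]
        rfl
      obtain ⟨u, hu⟩ := prod_minpoly_dvd K π hint hinj gt hroots
      -- Lam for X^D * gt
      have hmem1 : Polynomial.aeval (X 0 : MvPolynomial (Fin 2) ℤ) (Polynomial.X ^ D * gt) -
          X 0 ^ (D + d) * g ∈ Jq q := by
        have e : Polynomial.aeval (X 0 : MvPolynomial (Fin 2) ℤ) (Polynomial.X ^ D * gt) -
            X 0 ^ (D + d) * g =
            -(X 0 ^ D * (X 0 ^ d * g -
              Polynomial.aeval (X 0 : MvPolynomial (Fin 2) ℤ) gt)) := by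
          rw [map_mul, map_pow, Polynomial.aeval_X]
          ring
        rw [e]
        exact (Jq q).neg_mem ((Jq q).mul_mem_left _ hgt)
      have hLam1 : Lam q (Polynomial.X ^ D * gt) (D + d) := lam_of_mem q _ _ g hmem1
      have hfac : Polynomial.X ^ D * gt = Pw * (Polynomial.X ^ D * u) := by
        rw [hu]; ring
      rw [hfac] at hLam1
      have hLam2 : Lam q (Polynomial.X ^ D * u) d :=
        lam_gauss q hq Pw D hLamPw hP0 d _ hLam1
      obtain ⟨y, hy⟩ := exists_of_lam q d _ hLam2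
      set B : MvPolynomial (Fin 2) ℤ :=
        Polynomial.aeval (X 0 : MvPolynomial (Fin 2) ℤ) (Polynomial.X ^ D * u) with hB
      have hAB : X 0 ^ D * Polynomial.aeval (X 0 : MvPolynomial (Fin 2) ℤ) gt = A * B := by
        have := congrArg (Polynomial.aeval (X 0 : MvPolynomial (Fin 2) ℤ)) hfac
        rw [map_mul, map_pow, Polynomial.aeval_X, map_mul] at this
        exact this
      have hkey : X 0 ^ (D + d) * (g - h * y) ∈ Jq q := by
        have e : X 0 ^ (D + d) * (g - h * y) =
            X 0 ^ D * (X 0 ^ d * g - Polynomial.aeval (X 0 : MvPolynomial (Fin 2) ℤ) gt) +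
              (A * (B - X 0 ^ d * y) + X 0 ^ d * y * (A - X 0 ^ D * h)) := by
          linear_combination hAB
        rw [e]
        exact (Jq q).add_mem ((Jq q).mul_mem_left _ hgt)
          ((Jq q).add_mem ((Jq q).mul_mem_left _ hy) ((Jq q).mul_mem_left _ hhJ'))
      have hgy : g - h * y ∈ Jq q := cancel_X0_pow q hq _ _ hkey
      have e : g = (g - h * y) + h * y := by ring
      rw [e]
      exact Ideal.add_mem _ (hJle hgy) (Ideal.mul_mem_right _ _ hhmem)
    · rw [Ideal.span_le]
      rintro x (rfl | rfl)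
      · exact hφJ _ (gen_mem_Jq q)
      · exact hφh
  · apply isWeaklyRegular_pair
    · intro x hx
      have hne : (X 0 * X 1 - MvPolynomial.C q : MvPolynomial (Fin 2) ℤ) ≠ 0 := by
        intro h0
        have := congrArg MvPolynomial.constantCoeff h0
        simp at this
        exact hq this
      exact (mul_eq_zero.1 hx).resolve_left hne
    · intro x hx
      have hx' : h * x ∈ Jq q := hx
      show x ∈ Jq q
      obtain ⟨d, xt, hxt⟩ := exists_gt q x
      have hAx : A * x ∈ Jq q := by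
        have e : A * x = (A - X 0 ^ D * h) * x + X 0 ^ D * (h * x) := by ring
        rw [e]
        exact (Jq q).add_mem ((Jq q).mul_mem_right _ hhJ') ((Jq q).mul_mem_left _ hx')
      have hAxt : Polynomial.aeval (X 0 : MvPolynomial (Fin 2) ℤ) (Pw * xt) ∈ Jq q := by
        have e : Polynomial.aeval (X 0 : MvPolynomial (Fin 2) ℤ) (Pw * xt) =
            X 0 ^ d * (A * x) - A * (X 0 ^ d * x -
              Polynomial.aeval (X 0 : MvPolynomial (Fin 2) ℤ) xt) := by
          rw [map_mul]
          ring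
        rw [e]
        exact (Jq q).sub_mem ((Jq q).mul_mem_left _ hAx) ((Jq q).mul_mem_left _ hxt)
      have h0 := rho_Jq q _ hAxt
      rw [rho_aeval, Polynomial.toLaurent_eq_zero] at h0
      have hxt0 : xt = 0 := (mul_eq_zero.1 h0).resolve_left hPwne
      rw [hxt0, map_zero, sub_zero] at hxt
      exact cancel_X0_pow q hq _ _ hxt

end Main

section Coeff0

theorem prod_coeff_zero (p e : ℕ) [Fact p.Prime]
    (ι : Type) [Fintype ι] (K : ι → Type u) [∀ i, Field (K i)] [∀ i, CharZero (K i)] (π : ∀ i, K i)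
    (hint : ∀ i, IsIntegral ℤ (π i))
    (hweil : ∀ i, ∀ z ∈ (minpoly ℤ (π i)).aroots ℂ, ‖z‖ = Real.sqrt ((p : ℝ) ^ e))
    (D : ℕ) (hD : ∑ i, (minpoly ℤ (π i)).natDegree = 2 * D) :
    (∏ i, minpoly ℤ (π i)).coeff 0 = ((p : ℤ) ^ e) ^ D ∨
      (∏ i, minpoly ℤ (π i)).coeff 0 = -((p : ℤ) ^ e) ^ D := by
  have hp : p.Prime := Fact.out
  have hq0 : 0 < p ^ e := pow_pos hp.pos e
  have hsq : ∀ i, ((minpoly ℤ (π i)).coeff 0) ^ 2 =
      ((p : ℤ) ^ e) ^ (minpoly ℤ (π i)).natDegree := by
    intro i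
    have hmonic := minpoly.monic (hint i)
    have hirr : Irreducible ((minpoly ℤ (π i)).map (Int.castRingHom ℚ)) := by
      have h1 := (hmonic.irreducible_iff_irreducible_map_fraction_map (K := ℚ)).1
        (minpoly.irreducible (hint i))
      rwa [algebraMap_int_eq] at h1
    have hweil' : ∀ z ∈ (minpoly ℤ (π i)).aroots ℂ, ‖z‖ = Real.sqrt ((p ^ e : ℕ) : ℝ) := by
      intro z hz
      rw [hweil i z hz, Nat.cast_pow]
    have h1 := coeff_relation (minpoly ℤ (π i)) hmonic hirr (p ^ e) hq0 hweil' 0 (Nat.zero_le _)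
    rw [Nat.sub_zero, hmonic.coeff_natDegree, one_mul] at h1
    rw [sq, ← h1]
    push_cast
    rfl
  have hc0 : (∏ i, minpoly ℤ (π i)).coeff 0 = ∏ i, (minpoly ℤ (π i)).coeff 0 := by
    rw [Polynomial.coeff_zero_eq_eval_zero, Polynomial.eval_prod]
    apply Finset.prod_congr rfl
    intro i _
    rw [Polynomial.coeff_zero_eq_eval_zero]
  have hprod : ((∏ i, minpoly ℤ (π i)).coeff 0) ^ 2 = (((p : ℤ) ^ e) ^ D) ^ 2 := by
    rw [hc0, ← Finset.prod_pow]
    rw [Finset.prod_congr rfl (fun i _ => hsq i), Finset.prod_pow_eq_pow_sum, hD, mul_comm 2 D,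
      pow_mul]
  exact sq_eq_sq_iff_eq_or_eq_neg.1 hprod

end Coeff0

end Groth.Agent.Lib.Helper6.WeilNumL
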