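import Mathlib
import Groth.Agent.Lib.Helper6.WeilNumL.WNg

/-!
# Weil numbers: the functional equation of `P_w`, existence of `h`, integrality of `V`
-/

set_option autoImplicit false
set_option linter.unusedSectionVars false
set_option linter.unusedVariables false
set_option linter.unusedSimpArgs false
set_option linter.style.haveILetI false
set_option maxHeartbeats 400000

namespace Groth.Agent.Lib.Helper6.WeilNumL

open Polynomial

universe u

section FE

variable (q : ℤ)

/-- The functional equation `x^n P(q/x) = P(0) P(x)` in polynomial form. -/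
def FE (P : ℤ[X]) : Prop := (P.comp (C q * X)).reverse = C (P.coeff 0) * P

theorem natDegree_comp_CqX (hq : q ≠ 0) (P : ℤ[X]) :
    (P.comp (C q * X)).natDegree = P.natDegree := by
  rw [Polynomial.natDegree_comp, Polynomial.natDegree_C_mul_X q hq, mul_one]

theorem fe_of_coeff_relation (hq : q ≠ 0) (P : ℤ[X])
    (hrel : ∀ m, m ≤ P.natDegree →
      P.coeff (P.natDegree - m) * q ^ (P.natDegree - m) = P.coeff 0 * P.coeff m) : FE q P := by
  unfold FE
  ext m
  rw [Polynomial.coeff_reverse, natDegree_comp_CqX q hq, Polynomial.comp_C_mul_X_coeff,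
    Polynomial.coeff_C_mul]
  rcases le_or_gt m P.natDegree with hm | hm
  · rw [Polynomial.revAt_le hm]
    exact hrel m hm
  · rw [Polynomial.revAt_eq_self_of_lt hm, Polynomial.coeff_eq_zero_of_natDegree_lt hm]
    ring

theorem fe_one : FE q 1 := by
  unfold FE
  have h1 : Polynomial.reverse (1 : ℤ[X]) = 1 := by
    have := Polynomial.reverse_C (1 : ℤ)
    rwa [map_one] at this
  simp [h1]

theorem fe_mul (P Q : ℤ[X]) (hP : FE q P) (hQ : FE q Q) : FE q (P * Q) := by
  unfold FE at hP hQ ⊢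
  rw [Polynomial.mul_comp, Polynomial.reverse_mul_of_domain, hP, hQ, Polynomial.mul_coeff_zero,
    map_mul]
  ring

theorem fe_prod {ι : Type*} (s : Finset ι) (P : ι → ℤ[X]) (h : ∀ i ∈ s, FE q (P i)) :
    FE q (∏ i ∈ s, P i) := by
  classical
  induction s using Finset.induction_on with
  | empty => rw [Finset.prod_empty]; exact fe_one q
  | insert a s ha ih =>
    rw [Finset.prod_insert ha]
    exact fe_mul q _ _ (h a (Finset.mem_insert_self a s))
      (ih fun i hi => h i (Finset.mem_insert_of_mem hi))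

theorem lam_of_fe (hq : q ≠ 0) (P : ℤ[X]) (D : ℕ) (hdeg : P.natDegree = 2 * D) (hfe : FE q P)
    (hP0 : P.coeff 0 = q ^ D ∨ P.coeff 0 = -q ^ D) : Lam q P D := by
  intro k hk
  have h1 := congrArg (fun f => f.coeff k) hfe
  unfold FE at hfe
  have h1 : ((P.comp (C q * X)).reverse).coeff k = (C (P.coeff 0) * P).coeff k := by rw [hfe]
  rw [Polynomial.coeff_reverse, natDegree_comp_CqX q hq, Polynomial.comp_C_mul_X_coeff,
    Polynomial.coeff_C_mul, hdeg, Polynomial.revAt_le (by omega)] at h1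
  have e : 2 * D - k = D + (D - k) := by omega
  rw [e, pow_add] at h1
  have hqD : q ^ D ≠ 0 := pow_ne_zero _ hq
  rcases hP0 with h0 | h0
  · rw [h0] at h1
    have h2 : q ^ D * (q ^ (D - k) * P.coeff (D + (D - k))) = q ^ D * P.coeff k := by
      rw [← h1]; ring
    have h3 := mul_left_cancel₀ hqD h2
    exact ⟨_, h3.symm⟩
  · rw [h0] at h1
    have h2 : q ^ D * (-(q ^ (D - k) * P.coeff (D + (D - k)))) = q ^ D * P.coeff k := by
      have : q ^ D * P.coeff k = -(-q ^ D * P.coeff k) := by ring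
      rw [this, ← h1]; ring
    have h3 := mul_left_cancel₀ hqD h2
    exact ⟨-P.coeff (D + (D - k)), by rw [← h3]; ring⟩

/-- The other root: if `x y = q` in a field and `P(x) = 0` then `P(y) = 0`. -/
theorem aeval_other_root (hq : q ≠ 0) (P : ℤ[X]) (hfe : FE q P) {K : Type*} [Field K]
    (x y : K) (hx : x ≠ 0) (hxy : x * y = (q : K)) (hPx : Polynomial.aeval x P = 0) :
    Polynomial.aeval y P = 0 := by
  -- evaluate the functional equation
  have h1 : ∀ f : ℤ[X], Polynomial.aeval x f.reverse * (x⁻¹) ^ f.natDegree =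
      Polynomial.aeval (x⁻¹) f := by
    intro f
    haveI : Invertible (x⁻¹) := invertibleOfNonzero (inv_ne_zero hx)
    have := Polynomial.eval₂_reverse_mul_pow (algebraMap ℤ K) (x⁻¹) f
    rw [invOf_eq_inv, inv_inv] at this
    exact this
  have h2 := h1 (P.comp (C q * X))
  unfold FE at hfe
  rw [hfe, map_mul, hPx, mul_zero, zero_mul] at h2
  rw [Polynomial.aeval_comp] at h2
  have h3 : Polynomial.aeval (x⁻¹) (C q * X : ℤ[X]) = y := by
    rw [map_mul, Polynomial.aeval_C, Polynomial.aeval_X]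
    have : (algebraMap ℤ K) q = (q : K) := by simp
    rw [this, ← hxy]
    field_simp
  rw [h3] at h2
  exact h2.symm

end FE

section Family

variable (p e : ℕ) [Fact p.Prime]
  (ι : Type) [Fintype ι] (K : ι → Type u) [∀ i, Field (K i)] [∀ i, CharZero (K i)] (π : ∀ i, K i)
  (hint : ∀ i, IsIntegral ℤ (π i))
  (hweil : ∀ i, ∀ z ∈ (minpoly ℤ (π i)).aroots ℂ, ‖z‖ = Real.sqrt ((p : ℝ) ^ e))

include hint hweil in
theorem fe_minpoly (i : ι) : FE ((p : ℤ) ^ e) (minpoly ℤ (π i)) := by
  have hp : p.Prime := Fact.out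
  have hq0 : 0 < p ^ e := pow_pos hp.pos e
  have hq : ((p : ℤ) ^ e) ≠ 0 := by
    have : (p : ℤ) ≠ 0 := by exact_mod_cast hp.ne_zero
    exact pow_ne_zero _ this
  have hmonic := minpoly.monic (hint i)
  have hirr : Irreducible ((minpoly ℤ (π i)).map (Int.castRingHom ℚ)) := by
    have h1 := (hmonic.irreducible_iff_irreducible_map_fraction_map (K := ℚ)).1
      (minpoly.irreducible (hint i))
    rwa [algebraMap_int_eq] at h1
  have hweil' : ∀ z ∈ (minpoly ℤ (π i)).aroots ℂ, ‖z‖ = Real.sqrt ((p ^ e : ℕ) : ℝ) := by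
    intro z hz
    rw [hweil i z hz, Nat.cast_pow]
  apply fe_of_coeff_relation _ hq
  intro m hm
  have h1 := coeff_relation (minpoly ℤ (π i)) hmonic hirr (p ^ e) hq0 hweil' m hm
  rw [← h1]
  push_cast
  rfl

include hint hweil in
theorem fe_prod_minpoly : FE ((p : ℤ) ^ e) (∏ i, minpoly ℤ (π i)) :=
  fe_prod _ _ _ (fun i _ => fe_minpoly p e ι K π hint hweil i)

include hint in
theorem natDegree_prod_minpoly :
    (∏ i, minpoly ℤ (π i)).natDegree = ∑ i, (minpoly ℤ (π i)).natDegree :=
  Polynomial.natDegree_prod_of_monic _ _ (fun i _ => minpoly.monic (hint i))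

include hint hweil in
/-- Existence of `h`. -/
theorem exists_h (D : ℕ) (hD : ∑ i, (minpoly ℤ (π i)).natDegree = 2 * D) :
    ∃ h : MvPolynomial (Fin 2) ℤ,
      MvPolynomial.X 0 ^ D * h -
        Polynomial.aeval (MvPolynomial.X 0 : MvPolynomial (Fin 2) ℤ) (∏ i, minpoly ℤ (π i)) ∈
      Ideal.span ({MvPolynomial.X 0 * MvPolynomial.X 1 - MvPolynomial.C ((p : ℤ) ^ e)} :
        Set (MvPolynomial (Fin 2) ℤ)) := by
  have hp : p.Prime := Fact.out
  have hq : ((p : ℤ) ^ e) ≠ 0 := by
    have : (p : ℤ) ≠ 0 := by exact_mod_cast hp.ne_zero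
    exact pow_ne_zero _ this
  have hP0 := prod_coeff_zero p e ι K π hint hweil D hD
  have hdeg : (∏ i, minpoly ℤ (π i)).natDegree = 2 * D := by
    rw [natDegree_prod_minpoly ι K π hint, hD]
  have hLam := lam_of_fe _ hq _ D hdeg (fe_prod_minpoly p e ι K π hint hweil) hP0
  obtain ⟨y, hy⟩ := exists_of_lam _ D _ hLam
  refine ⟨y, ?_⟩
  have := (Jq ((p : ℤ) ^ e)).neg_mem hy
  rwa [neg_sub] at this

end Family

end Groth.Agent.Lib.Helper6.WeilNumL
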