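import Mathlib
import Groth.Agent.Lib.Helper6.WeilNumL.WNh
import Groth.Agent.Lib.Helper4.DimFT1

/-!
# Weil numbers: `R_w` is a finite free `ℤ`-module of rank `2D`
-/

set_option autoImplicit false
set_option linter.unusedSectionVars false
set_option linter.unusedVariables false
set_option linter.unusedSimpArgs false
set_option linter.style.haveILetI false
set_option maxHeartbeats 400000

namespace Groth.Agent.Lib.Helper6.WeilNumL

open Polynomial

universe u

section Fin

variable (q : ℤ) (hq : q ≠ 0)
  (ι : Type) [Fintype ι] (K : ι → Type u) [∀ i, Field (K i)] [∀ i, CharZero (K i)] (π : ∀ i, K i)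
  (hπ : ∀ i, π i ≠ 0)
  (hint : ∀ i, IsIntegral ℤ (π i))
  (hinj : ∀ i j, minpoly ℤ (π i) = minpoly ℤ (π j) → i = j)
  (hfe : FE q (∏ i, minpoly ℤ (π i)))
  (φ : MvPolynomial (Fin 2) ℤ →ₐ[ℤ] ((i : ι) → K i))
  (hX0 : φ (MvPolynomial.X 0) = fun i => π i)
  (hX1 : φ (MvPolynomial.X 1) = fun i => (q : K i) / π i)

theorem aeval_pi_apply (x : (i : ι) → K i) (G : ℤ[X]) (i : ι) :
    (Polynomial.aeval x G) i = Polynomial.aeval (x i) G :=
  (Polynomial.aeval_algHom_apply (Pi.evalAlgHom ℤ K i) x G).symm

include hint in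
theorem aeval_F_eq_zero :
    Polynomial.aeval (fun i => π i : (i : ι) → K i) (∏ i, minpoly ℤ (π i)) = 0 := by
  funext i
  rw [aeval_pi_apply]
  exact aeval_prod_minpoly K π hint i

include hint hfe hq hπ in
theorem aeval_V_eq_zero :
    Polynomial.aeval (fun i => (q : K i) / π i : (i : ι) → K i) (∏ i, minpoly ℤ (π i)) = 0 := by
  funext i
  rw [aeval_pi_apply]
  exact aeval_other_root q hq _ hfe (π i) ((q : K i) / π i) (hπ i) (mul_div_cancel₀ _ (hπ i))
    (aeval_prod_minpoly K π hint i)

include hint in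
theorem monic_prod_minpoly : (∏ i, minpoly ℤ (π i)).Monic :=
  Polynomial.monic_prod_of_monic _ _ (fun i _ => minpoly.monic (hint i))

include hint hfe hq hπ hX0 hX1 in
theorem finite_range : Module.Finite ℤ φ.range := by
  have hrange : φ.range = Algebra.adjoin ℤ (φ '' Set.range MvPolynomial.X) := by
    rw [← AlgHom.map_adjoin, MvPolynomial.adjoin_range_X, Algebra.map_top]
  have hfg : (Algebra.adjoin ℤ (φ '' Set.range MvPolynomial.X)).toSubmodule.FG := by
    apply fg_adjoin_of_finite (Set.toFinite _)
    rintro _ ⟨_, ⟨j, rfl⟩, rfl⟩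
    fin_cases j
    · show IsIntegral ℤ (φ (MvPolynomial.X 0))
      rw [hX0]
      exact ⟨_, monic_prod_minpoly ι K π hint, aeval_F_eq_zero ι K π hint⟩
    · show IsIntegral ℤ (φ (MvPolynomial.X 1))
      rw [hX1]
      exact ⟨_, monic_prod_minpoly ι K π hint, aeval_V_eq_zero q hq ι K π hπ hint hfe⟩
  rw [← hrange] at hfg
  exact Module.Finite.iff_fg.2 hfg

include hint hfe hq hπ hX0 hX1 in
theorem free_range : Module.Free ℤ φ.range := by
  haveI := finite_range q hq ι K π hπ hint hfe φ hX0 hX1
  haveI : Module.IsTorsionFree ℤ φ.range := inferInstance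
  exact Module.free_of_finite_type_torsion_free'

include hint hfe hq hπ hX0 hX1 in
theorem krullDim_range [Nonempty ι] : ringKrullDim φ.range = 1 := by
  haveI := finite_range q hq ι K π hπ hint hfe φ hX0 hX1
  haveI : Algebra.IsIntegral ℤ φ.range := Algebra.IsIntegral.of_finite ℤ φ.range
  have hinj' : Function.Injective (algebraMap ℤ φ.range) := by
    rw [injective_iff_map_eq_zero]
    intro n hn
    obtain ⟨i⟩ := (inferInstance : Nonempty ι)
    have h1 : ((algebraMap ℤ φ.range n : φ.range) : (i : ι) → K i) i = 0 := by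
      rw [hn]; rfl
    have h2 : ((algebraMap ℤ φ.range n : φ.range) : (i : ι) → K i) i = (n : K i) := by
      simp
    rw [h2] at h1
    exact_mod_cast h1
  rw [Groth.Agent.Lib.Helper4.DimFT1.ringKrullDim_eq_of_isIntegral_of_injective ℤ φ.range hinj']
  exact IsPrincipalIdealRing.ringKrullDim_eq_one ℤ Int.not_isField

include hq hπ hint hinj hfe hX0 hX1 in
theorem finrank_range (D : ℕ) (hdeg : (∏ i, minpoly ℤ (π i)).natDegree = 2 * D) :
    Module.finrank ℤ φ.range = 2 * D := by
  haveI := finite_range q hq ι K π hπ hint hfe φ hX0 hX1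
  set Pw : ℤ[X] := ∏ i, minpoly ℤ (π i) with hPw
  have hmonic : Pw.Monic := monic_prod_minpoly ι K π hint
  let Fw : φ.range := ⟨φ (MvPolynomial.X 0), AlgHom.mem_range_self _ _⟩
  have hval : ∀ g : ℤ[X], ((Polynomial.aeval Fw g : φ.range) : (i : ι) → K i) =
      Polynomial.aeval (fun i => π i : (i : ι) → K i) g := by
    intro g
    have h1 := Polynomial.aeval_algHom_apply φ.range.val Fw g
    have h2 : φ.range.val Fw = fun i => π i := hX0
    rw [h2] at h1
    exact h1.symm
  have hFw : Polynomial.aeval Fw Pw = 0 := by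
    apply Subtype.ext
    rw [hval]
    exact aeval_F_eq_zero ι K π hint
  let L : AdjoinRoot Pw →ₐ[ℤ] φ.range :=
    AdjoinRoot.liftAlgHom Pw (Algebra.ofId ℤ φ.range) Fw hFw
  have hL : ∀ g : ℤ[X], L (AdjoinRoot.mk Pw g) = Polynomial.aeval Fw g := fun g => rfl
  have hLinj : Function.Injective L := by
    rw [injective_iff_map_eq_zero]
    intro x hx
    obtain ⟨g, rfl⟩ := AdjoinRoot.mk_surjective x
    rw [hL] at hx
    rw [AdjoinRoot.mk_eq_zero]
    have h1 : Polynomial.aeval (fun i => π i : (i : ι) → K i) g = 0 := by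
      rw [← hval, hx]; rfl
    apply prod_minpoly_dvd K π hint hinj g
    intro i
    rw [← aeval_pi_apply ι K (fun i => π i) g i, h1]
    rfl
  have hrankAR : Module.finrank ℤ (AdjoinRoot Pw) = 2 * D := by
    rw [(AdjoinRoot.powerBasis' hmonic).finrank, AdjoinRoot.powerBasis'_dim, hdeg]
  apply le_antisymm
  · -- upper bound
    set N : Submodule ℤ φ.range := LinearMap.range L.toLinearMap with hN
    have hNrank : Module.finrank ℤ N = 2 * D := by
      rw [← hrankAR]
      exact LinearMap.finrank_range_of_inj hLinj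
    have hNmem : ∀ g : ℤ[X], Polynomial.aeval Fw g ∈ N := fun g => ⟨AdjoinRoot.mk Pw g, rfl⟩
    have hNF : ∀ x ∈ N, Fw * x ∈ N := by
      rintro _ ⟨y, rfl⟩
      refine ⟨AdjoinRoot.root Pw * y, ?_⟩
      show L (AdjoinRoot.root Pw * y) = Fw * L y
      rw [map_mul]
      congr 1
      exact AdjoinRoot.liftAlgHom_root _ _ _ _
    have hNFpow : ∀ (k : ℕ), ∀ x ∈ N, Fw ^ k * x ∈ N := by
      intro k
      induction k with
      | zero => intro x hx; simpa using hx
      | succ k ih =>
        intro x hx
        rw [pow_succ', mul_assoc]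
        exact hNF _ (ih x hx)
    -- φ.rangeRestrict kills J
    have hψJ : ∀ x ∈ Jq q, φ.rangeRestrict x = 0 := by
      intro x hx
      have hle : Jq q ≤ RingHom.ker φ.rangeRestrict.toRingHom := by
        rw [Ideal.span_le, Set.singleton_subset_iff]
        show φ.rangeRestrict (MvPolynomial.X 0 * MvPolynomial.X 1 - MvPolynomial.C q) = 0
        apply Subtype.ext
        show φ (MvPolynomial.X 0 * MvPolynomial.X 1 - MvPolynomial.C q) = 0
        rw [map_sub, map_mul, hX0, hX1]
        funext i
        have : (φ (MvPolynomial.C q)) i = (q : K i) := by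
          have h1 : φ (MvPolynomial.C q) = algebraMap ℤ _ q := φ.commutes q
          rw [h1]
          simp
        rw [Pi.sub_apply, Pi.mul_apply, this, mul_div_cancel₀ _ (hπ i), sub_self]
        rfl
      exact hle hx
    have heach : ∀ r : φ.range, ∃ d : ℕ, Fw ^ d * r ∈ N := by
      intro r
      obtain ⟨g, rfl⟩ := φ.rangeRestrict_surjective r
      obtain ⟨d, gt, hgt⟩ := exists_gt q g
      refine ⟨d, ?_⟩
      have h1 := hψJ _ hgt
      rw [map_sub, map_mul, map_pow, sub_eq_zero, ← Polynomial.aeval_algHom_apply] at h1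
      have h2 : φ.rangeRestrict (MvPolynomial.X 0) = Fw := rfl
      rw [h2] at h1
      rw [h1]
      exact hNmem gt
    choose dfun hdfun using heach
    obtain ⟨S, hS⟩ := (Module.Finite.fg_top : (⊤ : Submodule ℤ φ.range).FG)
    set d : ℕ := ∑ s ∈ S, dfun s with hd
    have hSd : ∀ s ∈ S, Fw ^ d * s ∈ N := by
      intro s hs
      have hle : dfun s ≤ d := Finset.single_le_sum (f := dfun) (fun _ _ => Nat.zero_le _) hs
      have e : Fw ^ d * s = Fw ^ (d - dfun s) * (Fw ^ dfun s * s) := by
        rw [← mul_assoc, ← pow_add, Nat.sub_add_cancel hle]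
      rw [e]
      exact hNFpow _ _ (hdfun s)
    have hall : ∀ r : φ.range, Fw ^ d * r ∈ N := by
      intro r
      have hr : r ∈ Submodule.span ℤ (S : Set φ.range) := by rw [hS]; trivial
      induction hr using Submodule.span_induction with
      | mem x hx => exact hSd x hx
      | zero => rw [mul_zero]; exact N.zero_mem
      | add x y _ _ hx hy => rw [mul_add]; exact N.add_mem hx hy
      | smul a x _ hx => rw [mul_smul_comm]; exact N.smul_mem a hx
    let M : φ.range →ₗ[ℤ] N := (LinearMap.mulLeft ℤ (Fw ^ d)).codRestrict N hall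
    have hMinj : Function.Injective M := by
      rw [injective_iff_map_eq_zero]
      intro r hr
      have h1 : Fw ^ d * r = 0 := congrArg Subtype.val hr
      apply Subtype.ext
      funext i
      have h2 := congrFun (congrArg Subtype.val h1) i
      have h3 : ((Fw ^ d * r : φ.range) : (i : ι) → K i) i = (π i) ^ d * (r : (i : ι) → K i) i := by
        show ((φ (MvPolynomial.X 0)) ^ d * (r : (i : ι) → K i)) i = _
        rw [hX0]
        rfl
      rw [h3] at h2
      rcases mul_eq_zero.1 h2 with h4 | h4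
      · exact absurd h4 (pow_ne_zero _ (hπ i))
      · exact h4
    rw [← hNrank]
    exact LinearMap.finrank_le_finrank_of_injective hMinj
  · rw [← hrankAR]
    exact LinearMap.finrank_le_finrank_of_injective (f := L.toLinearMap) hLinj

end Fin

end Groth.Agent.Lib.Helper6.WeilNumL
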