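import Mathlib
import Groth.Prelude
import Groth.Agent.Lib.Helper2.Gor.CIGor
import Groth.Agent.Lib.Helper1.MiscL
import Groth.Agent.Lib.Helper8.ABS21

/-!
# Complete intersections in regular rings are Gorenstein, across universes
-/

set_option autoImplicit false
set_option linter.unusedSectionVars false
set_option linter.unusedVariables false
set_option linter.unusedSimpArgs false
set_option linter.style.haveILetI false
set_option maxHeartbeats 400000

namespace Groth.Agent.Lib.Helper6.WeilNumL

open LocCoh

universe u

theorem isGorensteinRing_of_ringEquiv {A B : Type u} [CommRing A] [CommRing B] (e : A ≃+* B)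
    (hA : IsGorensteinRing A) : IsGorensteinRing B := by
  haveI := hA
  haveI : IsNoetherianRing A := inferInstance
  haveI : IsNoetherianRing B := isNoetherianRing_of_ringEquiv A e
  refine { isGorensteinLocalRing_localization := fun p hp => ?_ }
  have h1 : IsGorensteinLocalRing (Localization.AtPrime (p.comap e)) :=
    hA.isGorensteinLocalRing_localization (p.comap e)
  exact Groth.Agent.Helper8.GorFlat.isGorensteinLocalRing_of_ringEquiv
    (IsLocalization.ringEquivOfRingEquiv
      (Localization.AtPrime (p.comap e)) (Localization.AtPrime p) e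
      (e.map_primeCompl_comap_eq p)) h1

theorem isGorensteinRing_of_isRegularRing (A : Type u) [CommRing A] [IsRegularRing A] :
    IsGorensteinRing A := by
  haveI : IsNoetherianRing A := inferInstance
  refine { isGorensteinLocalRing_localization := fun p hp => ?_ }
  exact Groth.Agent.Helper8.ABS.isGorensteinLocalRing_of_isRegularLocalRing _

theorem isGorensteinRing_of_ci {S : Type u} [CommRing S] {R : Type} [CommRing R]
    [IsRegularRing R] (ψ : R →+* S) (hψ : Function.Surjective ψ) (rs : List R)
    (hker : RingHom.ker ψ = Ideal.ofList rs)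
    (hreg : RingTheory.Sequence.IsWeaklyRegular R rs) : IsGorensteinRing S := by
  let e : R ≃+* ULift.{u} R := ULift.ringEquiv.symm
  haveI : IsRegularRing (ULift.{u} R) := IsRegularRing.of_ringEquiv e
  have hG' := isGorensteinRing_of_isRegularRing (ULift.{u} R)
  have hreg' : RingTheory.Sequence.IsWeaklyRegular (ULift.{u} R) (rs.map e) :=
    (AddEquiv.isWeaklyRegular_congr (e := e.toAddEquiv)
      (List.forall₂_map_right_iff.mpr (List.forall₂_same.mpr fun r _ x => map_mul e r x))).1 hreg
  have hht : ((rs.map e).length : ℕ∞) ≤ (Ideal.ofList (rs.map e)).height := by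
    rw [Ideal.height_eq_inf_minimalPrimes]
    refine le_iInf₂ fun p hp => ?_
    haveI : p.IsPrime := hp.1.1
    exact Groth.Agent.Helper1.MiscL.length_le_height_of_isWeaklyRegular _ hreg' p hp.1.2
  have hQ := Groth.Agent.Helper2.Gor.isGorensteinRing_quotient_ofList hG' (rs.map e) hht
  let ψ' : ULift.{u} R →+* S := ψ.comp (e.symm : ULift.{u} R →+* R)
  have hψ' : Function.Surjective ψ' := hψ.comp e.symm.surjective
  have hker' : RingHom.ker ψ' = Ideal.ofList (rs.map e) := by
    have h2 : Ideal.ofList (rs.map e) = (Ideal.ofList rs).map (e : R →+* ULift.{u} R) :=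
      (Ideal.map_ofList (e : R →+* ULift.{u} R) rs).symm
    rw [h2]
    ext x
    rw [RingHom.mem_ker]
    show ψ (e.symm x) = 0 ↔ _
    rw [← RingHom.mem_ker, hker]
    constructor
    · intro hx
      have := Ideal.mem_map_of_mem (e : R →+* ULift.{u} R) hx
      simpa using this
    · intro hx
      obtain ⟨y, hy, rfl⟩ := (Ideal.mem_map_of_equiv e x).1 hx
      simpa using hy
  have eq1 : ULift.{u} R ⧸ Ideal.ofList (rs.map e) ≃+* S :=
    (Ideal.quotEquivOfEq hker'.symm).trans (RingHom.quotientKerEquivOfSurjective hψ')
  exact isGorensteinRing_of_ringEquiv eq1 hQ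

end Groth.Agent.Lib.Helper6.WeilNumL
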