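import Mathlib
import Groth.Agent.Lib.Helper6.WeilNumL.WNi
import Groth.Agent.Lib.Helper6.WeilNumL.WNj

/-!
# Weil numbers: `R_w` is free of rank `2D`, of dimension one and Gorenstein (S17985)
-/

set_option autoImplicit false
set_option linter.unusedSectionVars false
set_option linter.unusedVariables false
set_option linter.unusedSimpArgs false
set_option linter.style.haveILetI false
set_option maxHeartbeats 400000

namespace Groth.Agent.Lib.Helper6.WeilNumL

open Polynomial

universe u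

theorem gorenstein_range (q : ℤ) (hq : q ≠ 0)
    (ι : Type) [Fintype ι] (K : ι → Type u) [∀ i, Field (K i)] [∀ i, CharZero (K i)] (π : ∀ i, K i)
    (hπ : ∀ i, π i ≠ 0)
    (hint : ∀ i, IsIntegral ℤ (π i))
    (hinj : ∀ i j, minpoly ℤ (π i) = minpoly ℤ (π j) → i = j)
    (φ : MvPolynomial (Fin 2) ℤ →ₐ[ℤ] ((i : ι) → K i))
    (hX0 : φ (MvPolynomial.X 0) = fun i => π i)
    (hX1 : φ (MvPolynomial.X 1) = fun i => (q : K i) / π i)
    (D : ℕ)
    (hP0 : (∏ i, minpoly ℤ (π i)).coeff 0 = q ^ D ∨ (∏ i, minpoly ℤ (π i)).coeff 0 = -q ^ D)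
    (h : MvPolynomial (Fin 2) ℤ)
    (hh : MvPolynomial.X 0 ^ D * h -
        Polynomial.aeval (MvPolynomial.X 0 : MvPolynomial (Fin 2) ℤ) (∏ i, minpoly ℤ (π i)) ∈
      Ideal.span ({MvPolynomial.X 0 * MvPolynomial.X 1 - MvPolynomial.C q} :
        Set (MvPolynomial (Fin 2) ℤ))) :
    LocCoh.IsGorensteinRing φ.range := by
  obtain ⟨hker, hreg⟩ := ker_eq_and_regular q hq ι K π hπ hint hinj φ hX0 hX1 D hP0 h hh
  have hlist : Ideal.ofList [MvPolynomial.X 0 * MvPolynomial.X 1 - MvPolynomial.C q, h] =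
      Ideal.span {MvPolynomial.X 0 * MvPolynomial.X 1 - MvPolynomial.C q, h} := by
    unfold Ideal.ofList
    congr 1
    ext x
    simp
  have hker' : RingHom.ker (φ.rangeRestrict : MvPolynomial (Fin 2) ℤ →+* φ.range) =
      Ideal.ofList [MvPolynomial.X 0 * MvPolynomial.X 1 - MvPolynomial.C q, h] := by
    rw [hlist, ← hker]
    ext x
    rw [RingHom.mem_ker, RingHom.mem_ker]
    constructor
    · intro hx
      exact congrArg Subtype.val hx
    · intro hx
      exact Subtype.ext hx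
  exact isGorensteinRing_of_ci (φ.rangeRestrict : MvPolynomial (Fin 2) ℤ →+* φ.range)
    φ.rangeRestrict_surjective _ hker' hreg

end Groth.Agent.Lib.Helper6.WeilNumL
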